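import Mathlib

/-!
# Fixed points of coprime actions in invariant cosets of solvable subgroups

An elementary version of the lifting of fixed points: if `A` acts on the finite group `G`, with
order prime to that of `G`, and `x N` is an invariant coset of an invariant solvable subgroup `N`,
then `x N` contains a fixed point.
-/

namespace CfsgLib.S3FPF

variable {G A : Type*} [Group G] [Finite G] [Group A] [Finite A]

/-- One abelian step: improve an element whose translates are congruent modulo `S` to one whose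
translates are congruent modulo the commutator subgroup of `S`. -/
lemma exists_step (φ : A →* MulAut G) (hcop : (Nat.card A).Coprime (Nat.card G))
    (S : Subgroup G) (hS : ∀ a, ∀ n ∈ S, φ a n ∈ S) (y : G) (hy : ∀ a, y⁻¹ * φ a y ∈ S) :
    ∃ y', y⁻¹ * y' ∈ S ∧ ∀ a, y'⁻¹ * φ a y' ∈ ⁅S, S⁆ := by
  classical
  have : Fintype A := Fintype.ofFinite A
  let f : A → (↥S →* ↥S) := fun a =>
    { toFun := fun n => ⟨φ a n, hS a n n.2⟩
      map_one' := Subtype.ext (map_one (φ a))
      map_mul' := fun m n => Subtype.ext (map_mul (φ a) (m : G) (n : G)) }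
  let q : ↥S →* Abelianization ↥S := Abelianization.of
  let F : A → (Abelianization ↥S →* Abelianization ↥S) := fun a => Abelianization.map (f a)
  have hF : ∀ a n, F a (q n) = q (f a n) := fun a n => by
    simp [F, q, Abelianization.map_of]
  let c : A → Abelianization ↥S := fun a => q ⟨y⁻¹ * φ a y, hy a⟩
  have hc : ∀ a b, c (a * b) = c a * F a (c b) := by
    intro a b
    simp only [c, hF, ← map_mul]
    congr 1
    apply Subtype.ext
    simp [f, map_mul, MulAut.mul_apply, map_inv, mul_assoc]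
  set P : Abelianization ↥S := ∏ b, c b with hP
  have hFP : ∀ a, c a ^ Nat.card A * F a P = P := by
    intro a
    rw [hP, map_prod, Nat.card_eq_fintype_card, ← Finset.card_univ, ← Finset.prod_const,
      ← Finset.prod_mul_distrib]
    exact Fintype.prod_equiv (Equiv.mulLeft a) _ _ (fun b => (hc a b).symm)
  obtain ⟨s, hs⟩ : ∃ s, q s = P := QuotientGroup.mk_surjective P
  have hcardS : (Nat.card A).Coprime (Nat.card (Abelianization ↥S)) :=
    hcop.coprime_dvd_right (dvd_trans (Subgroup.card_quotient_dvd_card _)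
      (Subgroup.card_subgroup_dvd_card S))
  obtain ⟨k, hk⟩ : ∃ k, (Nat.card A * k) ≡ 1 [MOD Nat.card (Abelianization ↥S)] := by
    obtain ⟨k, -, hk⟩ := Nat.exists_mul_mod_eq_of_coprime 1 hcardS Nat.card_pos.ne'
    exact ⟨k, hk⟩
  refine ⟨y * (s : G) ^ k, by simp [pow_mem s.2], fun a => ?_⟩
  have hmem : (y * (s : G) ^ k)⁻¹ * φ a (y * (s : G) ^ k) ∈ S := by
    have : (y * (s : G) ^ k)⁻¹ * φ a (y * (s : G) ^ k) =
        ((s : G) ^ k)⁻¹ * (y⁻¹ * φ a y) * (φ a s) ^ k := by
      simp [map_mul, map_pow, mul_assoc]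
    rw [this]
    exact S.mul_mem (S.mul_mem (S.inv_mem (pow_mem s.2 k)) (hy a)) (pow_mem (hS a s s.2) k)
  have hz : q ⟨_, hmem⟩ = 1 := by
    have e : (⟨_, hmem⟩ : ↥S) = (s ^ k)⁻¹ * ⟨y⁻¹ * φ a y, hy a⟩ * (f a s) ^ k := by
      apply Subtype.ext
      simp [f, map_mul, map_pow, mul_assoc]
    rw [e, map_mul, map_mul, map_inv, map_pow, map_pow, ← hF, hs]
    change (P ^ k)⁻¹ * c a * (F a P) ^ k = 1
    have h1 : (c a) ^ (Nat.card A * k) * (F a P) ^ k = P ^ k := by
      rw [pow_mul, ← mul_pow, hFP]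
    have h2 : (c a) ^ (Nat.card A * k) = c a := by
      conv_rhs => rw [← pow_one (c a)]
      exact pow_eq_pow_iff_modEq.2 (hk.of_dvd (orderOf_dvd_natCard _))
    rw [h2] at h1
    rw [mul_assoc, h1, inv_mul_cancel]
  have hker : (⟨_, hmem⟩ : ↥S) ∈ commutator ↥S := (QuotientGroup.eq_one_iff _).1 hz
  have := Subgroup.mem_map_of_mem S.subtype hker
  rwa [Subgroup.map_subtype_commutator] at this

/-- Fixed points lift through coprime actions with solvable kernel. -/
theorem exists_fixed_in_coset (φ : A →* MulAut G) (hcop : (Nat.card A).Coprime (Nat.card G))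
    (N : Subgroup G) [Group.IsSolvable N] (hN : ∀ a, ∀ n ∈ N, φ a n ∈ N) (x : G)
    (hx : ∀ a, x⁻¹ * φ a x ∈ N) : ∃ y, x⁻¹ * y ∈ N ∧ ∀ a, φ a y = y := by
  obtain ⟨l, hl⟩ := (inferInstance : Group.IsSolvable N).solvable
  let T : ℕ → Subgroup G := fun j => (derivedSeries N j).map N.subtype
  have hTle : ∀ j, T j ≤ N := fun j => Subgroup.map_subtype_le _
  have hTsucc : ∀ j, T (j + 1) = ⁅T j, T j⁆ := fun j => by
    simp [T, derivedSeries_succ, Subgroup.map_commutator]
  have hTinv : ∀ j, ∀ a, ∀ n ∈ T j, φ a n ∈ T j := by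
    intro j
    induction j with
    | zero =>
      intro a n hn
      simp only [T, derivedSeries_zero, ← MonoidHom.range_eq_map, Subgroup.range_subtype] at hn ⊢
      exact hN a n hn
    | succ j ih =>
      intro a n hn
      rw [hTsucc] at hn ⊢
      have hle : (⁅T j, T j⁆).map (φ a).toMonoidHom ≤ ⁅T j, T j⁆ := by
        rw [Subgroup.map_commutator]
        apply Subgroup.commutator_mono <;>
        · rintro _ ⟨m, hm, rfl⟩; exact ih a m hm
      exact hle (Subgroup.mem_map_of_mem _ hn)
  have main : ∀ j, ∃ y, x⁻¹ * y ∈ N ∧ ∀ a, y⁻¹ * φ a y ∈ T j := by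
    intro j
    induction j with
    | zero =>
      refine ⟨x, by simp, fun a => ?_⟩
      simp only [T, derivedSeries_zero, ← MonoidHom.range_eq_map, Subgroup.range_subtype]
      exact hx a
    | succ j ih =>
      obtain ⟨y, hy1, hy2⟩ := ih
      obtain ⟨y', hy1', hy2'⟩ := exists_step φ hcop (T j) (hTinv j) y hy2
      refine ⟨y', ?_, ?_⟩
      · have : x⁻¹ * y' = (x⁻¹ * y) * (y⁻¹ * y') := by group
        rw [this]
        exact N.mul_mem hy1 (hTle j hy1')
      · rw [hTsucc]; exact hy2'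
  obtain ⟨y, hy1, hy2⟩ := main l
  refine ⟨y, hy1, fun a => ?_⟩
  have h := hy2 a
  simp only [T, hl, Subgroup.map_bot, Subgroup.mem_bot] at h
  exact (inv_mul_eq_one.1 h).symm

/-- If only the identity is fixed, then an invariant coset of an invariant solvable subgroup is
the trivial coset. -/
theorem mem_of_invariant_coset (φ : A →* MulAut G) (hcop : (Nat.card A).Coprime (Nat.card G))
    (hfpf : ∀ g, (∀ a, φ a g = g) → g = 1) (N : Subgroup G) [Group.IsSolvable N]
    (hN : ∀ a, ∀ n ∈ N, φ a n ∈ N) (x : G) (hx : ∀ a, x⁻¹ * φ a x ∈ N) : x ∈ N := by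
  obtain ⟨y, hy1, hy2⟩ := exists_fixed_in_coset φ hcop N hN x hx
  rw [hfpf y hy2, mul_one] at hy1
  exact inv_mem_iff.1 hy1

end CfsgLib.S3FPF
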