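import Mathlib

/-!
# Automorphisms with quadratic minimal polynomial `x² + x + 1`

If a unit `a` of a ring satisfies `a² + a + 1 = 0`, then the commutators `[x, a]` with units `x`
are very restricted: if `u = [x,a]` and its conjugate by `a` generate a group of class at most two
and of order prime to `6` and invertible in the ring, then `u = 1`.
-/

namespace CfsgLib.S3FPF

variable {R : Type*} [Ring R]

lemma pow_eq_one_add_mul_of_mul_self_eq_zero {N : R} (hN : N * N = 0) (n : ℕ) :
    (1 + N) ^ n = 1 + (n : R) * N := by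
  induction n with
  | zero => simp
  | succ n ih =>
    rw [pow_succ, ih, mul_add, mul_one, add_mul, mul_assoc, hN, Nat.cast_succ]
    noncomm_ring

/-- A unipotent element of invertible order is trivial. -/
lemma eq_one_of_sub_one_mul_self {g : R} {m : ℕ} (h : (g - 1) * (g - 1) = 0) (hg : g ^ m = 1)
    (hm : IsUnit (m : R)) : g = 1 := by
  have h2 := pow_eq_one_add_mul_of_mul_self_eq_zero h m
  rw [add_sub_cancel, hg] at h2
  have h3 : (m : R) * (g - 1) = 0 := by simpa using h2
  exact sub_eq_zero.1 (hm.mul_right_eq_zero.1 h3)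

/-- Version relative to a commuting multiplier. -/
lemma sub_one_mul_eq_zero {S : Type*} [CommRing S] {g X : S} {m : ℕ}
    (h : (g - 1) * (g - 1) * X = 0) (hg : g ^ m = 1) (hm : IsUnit (m : S)) :
    (g - 1) * X = 0 := by
  have key : ∀ n : ℕ, g ^ n * X = X + (n : S) * ((g - 1) * X) := by
    intro n
    induction n with
    | zero => simp
    | succ n ih =>
      rw [pow_succ', mul_assoc, ih, Nat.cast_succ]
      linear_combination (n : S) * h
  have h2 := key m
  rw [hg, one_mul] at h2
  exact hm.mul_right_eq_zero.1 (by linear_combination -h2)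

/-- The commutative core of the argument. -/
lemma eq_one_of_relations {S : Type*} [CommRing S] {u v w : S} {m : ℕ}
    (hu : u ^ m = 1) (hw : w ^ m = 1) (huvw : u * v * w = 1)
    (h1 : (u - v) * (1 - w) = 0) (h2 : (v - w) * (1 - u) = 0)
    (hm : IsUnit (m : S)) (hm3 : m.Coprime 3) : w = 1 := by
  set X : S := 1 - w with hX
  have hXv : v * X = u * X := by linear_combination -h1
  have hw2 : u * u * w * X = X := by
    calc u * u * w * X = u * w * (u * X) := by ring
      _ = u * w * (v * X) := by rw [hXv]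
      _ = (u * v * w) * X := by ring
      _ = X := by rw [huvw, one_mul]
  have hC : (u - w) * (1 - u) * X = 0 := by
    linear_combination X * h2 - (1 - u) * hXv
  have hA : (u ^ 3 - 1) * (1 - u) * X = 0 := by
    linear_combination (u * u) * hC + (1 - u) * hw2
  have hB : (u ^ 3 - 1) * (u ^ 3 - 1) * X = 0 := by
    linear_combination (-(1 + u + u ^ 2)) * hA
  have hu3 : (u ^ 3) ^ m = 1 := by rw [← pow_mul, mul_comm, pow_mul, hu, one_pow]
  have h3 : u ^ 3 * X = X := by
    linear_combination sub_one_mul_eq_zero hB hu3 hm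
  have hmX : u ^ m * X = X := by rw [hu, one_mul]
  have hiter : ∀ (y : S) (n : ℕ), y * X = X → y ^ n * X = X := by
    intro y n hy
    induction n with
    | zero => simp
    | succ n ih => rw [pow_succ, mul_assoc, hy, ih]
  have huX : u * X = X := by
    obtain ⟨l, r, hlr⟩ : ∃ l r : ℕ, m * l = 3 * r + 1 := by
      have hmod : m % 3 = 1 ∨ m % 3 = 2 := by
        have : ¬ 3 ∣ m := by
          intro hd
          exact absurd (Nat.Coprime.eq_one_of_dvd hm3.symm hd) (by norm_num)
        omega
      rcases hmod with h | h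
      · exact ⟨1, m / 3, by omega⟩
      · exact ⟨2, 2 * (m / 3) + 1, by omega⟩
    have e1 : u ^ (m * l) * X = X := by rw [pow_mul, hu, one_pow, one_mul]
    rw [hlr, pow_succ', mul_assoc, pow_mul, hiter (u ^ 3) r h3] at e1
    exact e1
  have hvX : v * X = X := by rw [hXv, huX]
  have hwX : w * X = X := by
    calc w * X = w * (u * X) := by rw [huX]
      _ = w * (u * (v * X)) := by rw [hvX]
      _ = (u * v * w) * X := by ring
      _ = X := by rw [huvw, one_mul]
  apply eq_one_of_sub_one_mul_self (m := m) ?_ hw hm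
  rw [hX] at hwX
  linear_combination -hwX

/-- If `a² + a + 1 = 0` then `u = [x,a]` satisfies `a (u + u⁻¹) a⁻¹ = u + u⁻¹`. -/
lemma add_inv_conj_eq (a b : Rˣ) (ha : (a : R) * a + a + 1 = 0) (hb : (b : R) * b + b + 1 = 0) :
    (a : R) * (((b * a⁻¹ : Rˣ) : R) + (((b * a⁻¹)⁻¹ : Rˣ) : R)) =
      ((((b * a⁻¹ : Rˣ) : R) + (((b * a⁻¹)⁻¹ : Rˣ) : R))) * a := by
  have inv_eq : ∀ c : Rˣ, (c : R) * c + c + 1 = 0 → ((c⁻¹ : Rˣ) : R) = -1 - c := by
    intro c hc
    calc ((c⁻¹ : Rˣ) : R) = ((c⁻¹ : Rˣ) : R) * ((c : R) * (-1 - c)) := by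
          have : (c : R) * (-1 - c) = 1 := by
            calc (c : R) * (-1 - c) = 1 - ((c : R) * c + c + 1) := by noncomm_ring
              _ = 1 := by rw [hc, sub_zero]
          rw [this, mul_one]
      _ = -1 - c := by rw [← mul_assoc, Units.inv_mul, one_mul]
  rw [mul_inv_rev, inv_inv, Units.val_mul, Units.val_mul, inv_eq a ha, inv_eq b hb]
  have e : ((a : R) * ((b : R) * (-1 - a) + a * (-1 - b))) -
      ((b : R) * (-1 - a) + a * (-1 - b)) * a =
      -(((a : R) * a + a + 1) * b) + b * ((a : R) * a + a + 1) := by noncomm_ring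
  rw [ha] at e
  simp only [zero_mul, mul_zero, neg_zero, add_zero] at e
  exact sub_eq_zero.1 e

/-- Main lemma. -/
theorem comm_eq_one_of_quadratic (a x : Rˣ) (ha : (a : R) * a + a + 1 = 0) (m : ℕ)
    (hu : (x⁻¹ * a * x * a⁻¹) ^ m = 1)
    (hmu : IsUnit (m : R)) (hodd : Odd m) (hm3 : m.Coprime 3)
    (z : Rˣ) (hzu : Commute z (x⁻¹ * a * x * a⁻¹))
    (hzv : Commute z (a * (x⁻¹ * a * x * a⁻¹) * a⁻¹))
    (hz : (x⁻¹ * a * x * a⁻¹) * (a * (x⁻¹ * a * x * a⁻¹) * a⁻¹) =
      z * (a * (x⁻¹ * a * x * a⁻¹) * a⁻¹) * (x⁻¹ * a * x * a⁻¹))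
    (hzm : z ^ m = 1) :
    x⁻¹ * a * x * a⁻¹ = 1 := by
  set u := x⁻¹ * a * x * a⁻¹ with hu_def
  set v := a * u * a⁻¹ with hv_def
  set w := a * v * a⁻¹ with hw_def
  have ha3 : a * a * a = 1 := by
    ext
    have : ((a : R) * a * a) - 1 = ((a : R) - 1) * ((a : R) * a + a + 1) := by noncomm_ring
    rw [ha, mul_zero] at this
    simpa using sub_eq_zero.1 this
  -- the sum `u + u⁻¹` is centralized by `a`
  have hb : (((x⁻¹ * a * x : Rˣ)) : R) * ((x⁻¹ * a * x : Rˣ) : R) + ((x⁻¹ * a * x : Rˣ) : R) + 1
      = 0 := by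
    have : (((x⁻¹ * a * x : Rˣ)) : R) * ((x⁻¹ * a * x : Rˣ) : R) + ((x⁻¹ * a * x : Rˣ) : R) + 1
        = ((x⁻¹ : Rˣ) : R) * ((a : R) * a + a + 1) * x := by
      simp only [Units.val_mul, mul_add, add_mul, mul_one, Units.inv_mul, mul_assoc,
        Units.mul_inv_cancel_left]
    rw [this, ha, mul_zero, zero_mul]
  have hsum : (u : R) + ((u⁻¹ : Rˣ) : R) = (v : R) + ((v⁻¹ : Rˣ) : R) := by
    have h := add_inv_conj_eq a (x⁻¹ * a * x) ha hb
    rw [← hu_def] at h
    have hvinv : v⁻¹ = a * u⁻¹ * a⁻¹ := by rw [hv_def]; group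
    rw [hvinv, hv_def]
    simp only [Units.val_mul]
    rw [← add_mul, ← mul_add, h, mul_assoc, Units.mul_inv, mul_one]
  have hvm : v ^ m = 1 := by rw [hv_def, conj_pow, hu, mul_one, mul_inv_cancel]
  have hwm : w ^ m = 1 := by rw [hw_def, conj_pow, hvm, mul_one, mul_inv_cancel]
  -- first step: `z = 1`
  have hz1 : z = 1 := by
    have huv : u * v * u⁻¹ = z * v := by rw [hz, mul_inv_cancel_right]
    have e1 : (v : R) + ((v⁻¹ : Rˣ) : R) = ((z * v : Rˣ) : R) + (((z * v)⁻¹ : Rˣ) : R) := by
      have : (u : R) * ((v : R) + ((v⁻¹ : Rˣ) : R)) * ((u⁻¹ : Rˣ) : R)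
          = (v : R) + ((v⁻¹ : Rˣ) : R) := by
        rw [← hsum, mul_add, add_mul, Units.mul_inv, mul_assoc, Units.mul_inv, mul_one, one_mul]
      conv_lhs => rw [← this]
      have hinv : (z * v)⁻¹ = u * v⁻¹ * u⁻¹ := by rw [← huv]; group
      rw [hinv, ← huv]
      simp only [Units.val_mul, mul_add, add_mul]
    -- multiply by `z * v`
    have e2 : ((z : R) - 1) * ((z : R) * v * v - 1) = 0 := by
      have hzv' : (z : R) * v = v * z := congrArg Units.val hzv.eq
      have e3 := congrArg (fun y : R => ((z * v : Rˣ) : R) * y) e1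
      simp only [mul_add, Units.mul_inv] at e3
      simp only [Units.val_mul] at e3
      rw [mul_assoc (z : R) (v : R) ((v⁻¹ : Rˣ) : R), Units.mul_inv, mul_one] at e3
      have e4 : ((z : R) - 1) * ((z : R) * v * v - 1) =
          ((z : R) * v * ((z : R) * v) + 1) - ((z : R) * v * v + (z : R)) := by
        have : (z : R) * v * ((z : R) * v) = (z : R) * ((z : R) * v * v) := by
          rw [mul_assoc (z : R) (v : R), ← mul_assoc (v : R) (z : R), ← hzv']
        rw [this]; noncomm_ring
      rw [e4, ← e3, sub_self]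
    -- conjugate by `u`
    have hzu' : (z : R) * u = u * z := congrArg Units.val hzu.eq
    have hzv' : (z : R) * v = v * z := congrArg Units.val hzv.eq
    have huv' : (u : R) * v = z * v * u := congrArg Units.val hz
    have e5 : ((z : R) - 1) * ((z : R) * z * ((z : R) * v * v) - 1) = 0 := by
      have h6 := congrArg (fun y : R => (u : R) * y) e2
      simp only [mul_zero] at h6
      have h7 : (u : R) * (((z : R) - 1) * ((z : R) * v * v - 1)) =
          ((z : R) - 1) * ((z : R) * z * ((z : R) * v * v) - 1) * u := by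
        have k1 : (u : R) * ((z : R) - 1) = ((z : R) - 1) * u := by
          rw [mul_sub, sub_mul, hzu', mul_one, one_mul]
        have k2 : (u : R) * ((z : R) * v * v) = (z : R) * z * ((z : R) * v * v) * u := by
          calc (u : R) * ((z : R) * v * v) = (u * z) * v * v := by noncomm_ring
            _ = (z * u) * v * v := by rw [hzu']
            _ = z * (u * v) * v := by noncomm_ring
            _ = z * (z * v * u) * v := by rw [huv']
            _ = z * z * v * (u * v) := by noncomm_ring
            _ = z * z * v * (z * v * u) := by rw [huv']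
            _ = z * z * (v * z) * v * u := by noncomm_ring
            _ = z * z * (z * v) * v * u := by rw [hzv']
            _ = (z : R) * z * ((z : R) * v * v) * u := by noncomm_ring
        rw [← mul_assoc, k1, mul_assoc, mul_sub, k2, mul_one]
        noncomm_ring
      rw [h7] at h6
      exact (Units.mul_left_eq_zero u).1 h6
    have e6 : ((z : R) * z - 1) * ((z : R) - 1) * ((z * v * v : Rˣ) : R) = 0 := by
      simp only [Units.val_mul]
      calc ((z : R) * z - 1) * ((z : R) - 1) * ((z : R) * v * v)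
          = ((z : R) - 1) * ((z : R) * z * ((z : R) * v * v) - 1) -
            ((z : R) - 1) * ((z : R) * v * v - 1) := by noncomm_ring
        _ = 0 := by rw [e5, e2, sub_zero]
    have e7 : ((z : R) * z - 1) * ((z : R) - 1) = 0 := (Units.mul_left_eq_zero _).1 e6
    have e8 : ((z : R) * z - 1) * ((z : R) * z - 1) = 0 := by
      have : ((z : R) * z - 1) * ((z : R) * z - 1) =
          ((z : R) * z - 1) * ((z : R) - 1) * ((z : R) + 1) := by noncomm_ring
      rw [this, e7, zero_mul]
    have hz2m : ((z : R) * z) ^ m = 1 := by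
      have : (z * z) ^ m = 1 := by rw [(Commute.refl z).mul_pow, hzm, one_mul]
      simpa using congrArg Units.val this
    have hz2 : z ^ 2 = 1 := by
      ext
      simpa [pow_two] using eq_one_of_sub_one_mul_self e8 hz2m hmu
    have hg : z ^ Nat.gcd 2 m = 1 := pow_gcd_eq_one.2 ⟨hz2, hzm⟩
    rwa [Nat.Coprime.gcd_eq_one (Nat.coprime_two_left.2 hodd), pow_one] at hg
  have huv : u * v = v * u := by rw [hz, hz1, one_mul]
  have huvw : u * v * w = 1 := by
    rw [hw_def, hv_def, hu_def]
    have : a⁻¹ = a * a := inv_eq_of_mul_eq_one_left ha3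
    calc x⁻¹ * a * x * a⁻¹ * (a * (x⁻¹ * a * x * a⁻¹) * a⁻¹) *
          (a * (a * (x⁻¹ * a * x * a⁻¹) * a⁻¹) * a⁻¹)
        = x⁻¹ * (a * a * a) * x * (a⁻¹ * a⁻¹ * a⁻¹) := by group
      _ = 1 := by rw [this, ha3]; simp only [mul_one, inv_mul_cancel, one_mul]
                  calc a * a * (a * a) * (a * a) = (a * a * a) * (a * a * a) := by group
                    _ = 1 := by rw [ha3, one_mul]
  have hweq : w = v⁻¹ * u⁻¹ := by
    have := eq_inv_of_mul_eq_one_right huvw
    rw [this, mul_inv_rev]
  -- the commutative subring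
  have hc : ∀ p ∈ ({(u : R), (v : R), (w : R)} : Set R), ∀ q ∈ ({(u : R), (v : R), (w : R)} : Set R),
      p * q = q * p := by
    have cuv : Commute u v := huv
    have cuw : Commute u w := by rw [hweq]; exact cuv.inv_right.mul_right ((Commute.refl u).inv_right)
    have cvw : Commute v w := by
      rw [hweq]; exact ((Commute.refl v).inv_right).mul_right cuv.symm.inv_right
    intro p hp q hq
    simp only [Set.mem_insert_iff, Set.mem_singleton_iff] at hp hq
    rcases hp with rfl | rfl | rfl <;> rcases hq with rfl | rfl | rfl <;>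
      first
        | rfl
        | exact congrArg Units.val cuv.eq
        | exact congrArg Units.val cuv.eq.symm
        | exact congrArg Units.val cuw.eq
        | exact congrArg Units.val cuw.eq.symm
        | exact congrArg Units.val cvw.eq
        | exact congrArg Units.val cvw.eq.symm
  have h1 : ((u : R) - v) * (1 - w) = 0 := by
    have huinv : ((u⁻¹ : Rˣ) : R) = (v : R) * w := by
      have : u⁻¹ = v * w := inv_eq_of_mul_eq_one_right (by rw [← mul_assoc]; exact huvw)
      simpa using congrArg Units.val this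
    have hvinv : ((v⁻¹ : Rˣ) : R) = (u : R) * w := by
      have : v⁻¹ = u * w := inv_eq_of_mul_eq_one_right (by
        rw [← mul_assoc, ← huv]; exact huvw)
      simpa using congrArg Units.val this
    calc ((u : R) - v) * (1 - w) = ((u : R) + (v : R) * w) - ((v : R) + (u : R) * w) := by
          noncomm_ring
      _ = 0 := by rw [← huinv, ← hvinv, hsum, sub_self]
  have h2 : ((v : R) - w) * (1 - u) = 0 := by
    have hwu : a * w * a⁻¹ = u := by
      rw [hw_def, hv_def]
      calc a * (a * (a * u * a⁻¹) * a⁻¹) * a⁻¹ = (a * a * a) * u * (a * a * a)⁻¹ := by group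
        _ = u := by rw [ha3, inv_one, one_mul, mul_one]
    have key : ∀ p q r : R, ((a : R) * p * ((a⁻¹ : Rˣ) : R) - (a : R) * q * ((a⁻¹ : Rˣ) : R)) *
        (1 - (a : R) * r * ((a⁻¹ : Rˣ) : R)) = (a : R) * ((p - q) * (1 - r)) * ((a⁻¹ : Rˣ) : R) := by
      intro p q r
      simp only [sub_mul, mul_sub, mul_one, mul_assoc, Units.inv_mul_cancel_left]
    have k := key (u : R) (v : R) (w : R)
    rw [h1, mul_zero, zero_mul] at k
    have e1 : (v : R) = (a : R) * (u : R) * ((a⁻¹ : Rˣ) : R) := congrArg Units.val hv_def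
    have e2 : (w : R) = (a : R) * (v : R) * ((a⁻¹ : Rˣ) : R) := congrArg Units.val hw_def
    have e3 : (a : R) * (w : R) * ((a⁻¹ : Rˣ) : R) = (u : R) := congrArg Units.val hwu
    rw [← e1, ← e2, e3] at k
    exact k
  -- the inverse of `m` in the subring is a power trick
  obtain ⟨mi, hmi⟩ := hmu
  let S' : Subring R := Subring.closure ({(u : R), (v : R), (w : R), ((mi⁻¹ : Rˣ) : R)} : Set R)
  have hcm : ∀ y : R, Commute ((mi⁻¹ : Rˣ) : R) y := fun y => by
    apply Commute.units_inv_left
    rw [hmi]; exact Nat.cast_commute m y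
  have hc' : ∀ p ∈ ({(u : R), (v : R), (w : R), ((mi⁻¹ : Rˣ) : R)} : Set R),
      ∀ q ∈ ({(u : R), (v : R), (w : R), ((mi⁻¹ : Rˣ) : R)} : Set R), p * q = q * p := by
    intro p hp q hq
    simp only [Set.mem_insert_iff, Set.mem_singleton_iff] at hp hq
    rcases hp with h | h | h | h <;> rcases hq with h' | h' | h' | h' <;> subst h <;>
      first
        | exact (hcm q).eq
        | (subst h'; exact (hcm _).eq.symm)
        | (subst h'; exact hc _ (by simp) _ (by simp))
  let _ : CommRing S' := Subring.closureCommRingOfComm hc'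
  have main := eq_one_of_relations (S := S') (m := m)
    (u := ⟨u, Subring.subset_closure (by simp)⟩) (v := ⟨v, Subring.subset_closure (by simp)⟩)
    (w := ⟨w, Subring.subset_closure (by simp)⟩)
    (Subtype.ext (by simpa using congrArg Units.val hu))
    (Subtype.ext (by simpa using congrArg Units.val hwm))
    (Subtype.ext (by simpa using congrArg Units.val huvw))
    (Subtype.ext (by simpa using h1)) (Subtype.ext (by simpa using h2))
    (IsUnit.of_mul_eq_one ⟨((mi⁻¹ : Rˣ) : R), Subring.subset_closure (by simp)⟩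
      (Subtype.ext (by simp [← hmi]))) hm3
  have hw1 : w = 1 := Units.ext (by simpa using congrArg Subtype.val main)
  rw [hw_def, hv_def] at hw1
  have hu1 : u = a⁻¹ * a⁻¹ * (a * (a * u * a⁻¹) * a⁻¹) * (a * a) := by group
  rw [hu1, hw1]; group

end CfsgLib.S3FPF
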