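import Cfsg.Agent.Lib.S3FPF.Piece

/-!
# Fixed-point-free `S₃` on a group acting faithfully on a module without fixed points
-/

namespace CfsgLib.S3FPF

lemma perm_three_dist : ∀ s : Equiv.Perm (Fin 3), s * (s * s) = 1 → s ≠ 1 →
    (1 : Equiv.Perm (Fin 3)) ∉ ({s, s * s} : Finset (Equiv.Perm (Fin 3))) ∧ s ≠ s * s := by
  decide

set_option synthInstance.maxSize 2000 in
set_option maxRecDepth 20000 in
lemma perm_three_subgroups : ∀ S : Finset (Equiv.Perm (Fin 3)), 1 ∈ S →
    (∀ a ∈ S, ∀ b ∈ S, a * b ∈ S) →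
    S = {1} ∨ (∃ t, t * t = 1 ∧ t ≠ 1 ∧ S = {1, t}) ∨
      (∃ s, s * (s * s) = 1 ∧ s ≠ 1 ∧ S = {1, s, s * s}) ∨ S = Finset.univ := by
  decide

section Glue

variable {k R : Type*} [CommRing k] [Ring R] [Algebra k R]

/-- The element acting as the scalar `c` on the image of `1 - E` and as `a` on that of `E`. -/
def glue (E : R) (c : k) (a : R) : R := c • (1 - E) + E * a

lemma glue_mul {E : R} (hE : E * E = E) {a b : R} (ha : Commute E a) (c d : k) :
    glue E c a * glue E d b = glue E (c * d) (a * b) := by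
  have e1 : (1 - E) * (1 - E) = 1 - E := by
    simp only [sub_mul, mul_sub, one_mul, mul_one, hE]; abel
  have e2 : (1 - E) * (E * b) = 0 := by
    rw [sub_mul, one_mul, ← mul_assoc E E b, hE, sub_self]
  have e3 : (E * a) * (1 - E) = 0 := by
    rw [mul_sub, mul_one, mul_assoc, ← ha.eq, ← mul_assoc, hE, sub_self]
  have e4 : (E * a) * (E * b) = E * (a * b) := by
    rw [mul_assoc E a, ← mul_assoc a E b, ← ha.eq, mul_assoc E a b, ← mul_assoc E E, hE]
  simp only [glue, add_mul, mul_add, smul_mul_assoc, mul_smul_comm, e1, e2, e3, e4, smul_zero,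
    add_zero, zero_add, smul_smul, mul_comm d c]

lemma glue_one (E : R) : glue E (1 : k) (1 : R) = 1 := by
  simp [glue]

lemma glue_add (E : R) (c d : k) (a b : R) :
    glue E c a + glue E d b = glue E (c + d) (a + b) := by
  simp only [glue, add_smul, mul_add]; abel

end Glue

lemma sum_monoidHom_eq_zero {Z k : Type*} [Group Z] [Fintype Z] [Field k] (f : Z →* kˣ)
    (hf : f ≠ 1) : ∑ z, (f z : k) = 0 := by
  obtain ⟨w, hw⟩ : ∃ w, f w ≠ 1 := by
    by_contra h; exact hf (MonoidHom.ext fun z => not_not.1 fun hz => h ⟨z, hz⟩)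
  have h : (f w : k) * ∑ z, (f z : k) = ∑ z, (f z : k) := by
    rw [Finset.mul_sum]
    exact Fintype.sum_equiv (Equiv.mulLeft w) _ _ (fun z => by simp)
  have h' : ((f w : k) - 1) * ∑ z, (f z : k) = 0 := by rw [sub_mul, one_mul, h, sub_self]
  rcases mul_eq_zero.1 h' with h'' | h''
  · exact absurd (Units.ext (sub_eq_zero.1 h'')) hw
  · exact h''

variable {K k R : Type*} [Group K] [Finite K] [Group.IsSolvable K] [Field k] [IsAlgClosed k]
  [Ring R] [Algebra k R]

theorem commutator_eq_bot (p : ℕ) [Fact p.Prime] [CharP k p]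
    (φ : Equiv.Perm (Fin 3) →* MulAut K) (hcop : (Nat.card K).Coprime 6)
    (hfpf : ∀ g, (∀ a, φ a g = g) → g = 1) (hp : ¬ p ∣ Nat.card ↥(commutator K))
    (ρ : K →* R) (hρ : Function.Injective ρ) (πS : Equiv.Perm (Fin 3) →* R)
    (hint : ∀ a x, πS a * ρ x = ρ (φ a x) * πS a) (hsum : ∑ a, πS a = 0) :
    commutator K = ⊥ := by
  classical
  by_contra hne
  -- the last non-trivial term of the derived series
  obtain ⟨j, hj, hj'⟩ : ∃ j, derivedSeries K (j + 1) ≠ ⊥ ∧ derivedSeries K (j + 1 + 1) = ⊥ := by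
    by_contra h
    push_neg at h
    obtain ⟨l, hl⟩ := (inferInstance : Group.IsSolvable K).solvable
    have hall : ∀ j, derivedSeries K (j + 1) ≠ ⊥ := by
      intro j
      induction j with
      | zero => rwa [zero_add, derivedSeries_one]
      | succ j ih => exact h j ih
    exact hall l (le_bot_iff.1 (hl ▸ derivedSeries_antitone K (Nat.le_succ l)))
  let Z : Subgroup K := derivedSeries K (j + 1)
  haveI hZn : Z.Normal := derivedSeries_normal K (j + 1)
  have hZchar : Z.Characteristic := derivedSeries_characteristic K (j + 1)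
  letI : CommGroup ↥Z :=
    { (inferInstance : Group ↥Z) with
      mul_comm := fun a b => Subtype.ext (by
        have h := Subgroup.commutator_mem_commutator a.2 b.2
        rw [show ⁅Z, Z⁆ = ⊥ from (derivedSeries_succ K (j + 1)).symm.trans hj',
          Subgroup.mem_bot, commutatorElement_eq_one_iff_commute] at h
        exact h.eq) }
  have hZle : Z ≤ commutator K := by
    rw [← derivedSeries_one]; exact derivedSeries_antitone K (by omega)
  have hZp : ¬ p ∣ Nat.card ↥Z := fun h => hp (h.trans (Subgroup.card_dvd_of_le hZle))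
  have hcardZ : (Nat.card ↥Z : k) ≠ 0 := fun h => hZp ((CharP.cast_eq_zero_iff k p _).1 h)
  haveI : NeZero (Monoid.exponent ↥Z : k) := ⟨fun h =>
    hZp (((CharP.cast_eq_zero_iff k p _).1 h).trans Group.exponent_dvd_nat_card)⟩
  have hZdvd : Nat.card ↥Z ∣ Nat.card K := Subgroup.card_subgroup_dvd_card _
  have hcardD : Nat.card (↥Z →* kˣ) = Nat.card ↥Z :=
    CommGroup.card_monoidHom_of_hasEnoughRootsOfUnity _ k
  haveI : Finite (↥Z →* kˣ) := Nat.finite_of_card_ne_zero (by rw [hcardD]; exact Nat.card_pos.ne')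
  letI : Fintype (↥Z →* kˣ) := Fintype.ofFinite _
  letI : Fintype ↥Z := Fintype.ofFinite _
  -- the idempotents
  let c : k := (Nat.card ↥Z : k)⁻¹
  let e : (↥Z →* kˣ) → R := fun χ => c • ∑ z, ((χ z⁻¹ : kˣ) : k) • ρ (z : K)
  have hρe : ∀ (z : ↥Z) χ, ρ (z : K) * e χ = ((χ z : kˣ) : k) • e χ := by
    intro z χ
    simp only [e, mul_smul_comm, Finset.mul_sum, Finset.smul_sum, smul_smul, ← map_mul,
      ← Subgroup.coe_mul]
    refine Fintype.sum_equiv (Equiv.mulLeft z) _ _ (fun w => ?_)
    simp only [Equiv.coe_mulLeft, mul_inv_rev, map_mul, map_inv, Units.val_mul]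
    congr 1
    field_simp
    simp
  have horth : ∀ χ ψ, e χ * e ψ = if χ = ψ then e ψ else 0 := by
    intro χ ψ
    have h1 : e χ * e ψ = (c * ∑ z, (((χ⁻¹ * ψ) z : kˣ) : k)) • e ψ := by
      conv_lhs => arg 1; simp only [e]
      rw [smul_mul_assoc, Finset.sum_mul, mul_smul, Finset.sum_smul]
      congr 1
      refine Finset.sum_congr rfl (fun z _ => ?_)
      rw [smul_mul_assoc, hρe, smul_smul]
      simp
    rw [h1]
    by_cases h : χ = ψ
    · subst h
      rw [if_pos rfl]
      rw [show χ⁻¹ * χ = 1 from inv_mul_cancel χ]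
      simp only [MonoidHom.one_apply, Units.val_one, Finset.sum_const,
        Finset.card_univ, nsmul_eq_mul, mul_one, ← Nat.card_eq_fintype_card, c,
        inv_mul_cancel₀ hcardZ, one_smul]
    · rw [if_neg h, sum_monoidHom_eq_zero _ (fun h' => h (inv_mul_eq_one.1 h')), mul_zero,
        zero_smul]
  have hesum : ∑ χ, e χ = 1 := by
    have h0 : ∀ z : ↥Z, ∑ χ : ↥Z →* kˣ, ((χ z⁻¹ : kˣ) : k) =
        if z = 1 then (Nat.card ↥Z : k) else 0 := by
      intro z
      by_cases hz : z = 1
      · rw [if_pos hz, ← hcardD, Nat.card_eq_fintype_card]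
        simp [hz]
      · rw [if_neg hz]
        let ev : (↥Z →* kˣ) →* kˣ :=
          { toFun := fun χ => χ z⁻¹, map_one' := rfl, map_mul' := fun _ _ => rfl }
        apply sum_monoidHom_eq_zero ev
        obtain ⟨f, hf⟩ := CommGroup.exists_apply_ne_one_of_hasEnoughRootsOfUnity ↥Z k
          (a := z⁻¹) (inv_ne_one.2 hz)
        exact fun h => hf (DFunLike.congr_fun h f)
    simp only [e, ← Finset.smul_sum]
    rw [Finset.sum_comm]
    simp only [← Finset.sum_smul, h0, ite_smul, zero_smul, Finset.sum_ite_eq', Finset.mem_univ,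
      if_true, OneMemClass.coe_one, map_one, smul_smul, c, inv_mul_cancel₀ hcardZ, one_smul]
  -- actions on the dual
  let act : MulAut ↥Z → (↥Z →* kˣ) → (↥Z →* kˣ) := fun f χ => χ.comp f.symm.toMonoidHom
  have hact_mul : ∀ f g χ, act (f * g) χ = act f (act g χ) := fun f g χ => rfl
  have hact_one : ∀ χ, act 1 χ = χ := fun χ => rfl
  have hact_inv : ∀ f χ, act f χ⁻¹ = (act f χ)⁻¹ := fun f χ => rfl
  have htrans : ∀ (g : R) (f : MulAut ↥Z), (∀ z : ↥Z, g * ρ (z : K) = ρ (f z : K) * g) →
      ∀ χ, g * e χ = e (act f χ) * g := by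
    intro g f hg χ
    simp only [e, mul_smul_comm, smul_mul_assoc, Finset.mul_sum, Finset.sum_mul, hg]
    congr 1
    refine Fintype.sum_equiv f.toEquiv _ _ (fun z => ?_)
    simp [act]
  let cj : K →* MulAut ↥Z := MulAut.conjNormal
  have hfixZ : ∀ a, ∀ n ∈ Z, φ a n ∈ Z := fun a n hn =>
    Subgroup.characteristic_iff_map_le.1 hZchar (φ a) (Subgroup.mem_map_of_mem _ hn)
  let φZ : Equiv.Perm (Fin 3) →* MulAut ↥Z :=
    { toFun := fun a =>
        { toFun := fun z => ⟨φ a z, hfixZ a z z.2⟩
          invFun := fun z => ⟨φ a⁻¹ z, hfixZ a⁻¹ z z.2⟩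
          left_inv := fun z => Subtype.ext (by
            show φ a⁻¹ (φ a z) = z
            rw [← MulAut.mul_apply, ← map_mul, inv_mul_cancel, map_one, MulAut.one_apply])
          right_inv := fun z => Subtype.ext (by
            show φ a (φ a⁻¹ z) = z
            rw [← MulAut.mul_apply, ← map_mul, mul_inv_cancel, map_one, MulAut.one_apply])
          map_mul' := fun x y => Subtype.ext (by simp) }
      map_one' := MulEquiv.ext fun z => Subtype.ext (by simp)
      map_mul' := fun a b => MulEquiv.ext fun z => Subtype.ext (by simp [MulAut.mul_apply]) }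
  have hswap : ∀ a x, φZ a * cj x = cj (φ a x) * φZ a := by
    intro a x
    ext z
    simp [φZ, cj, MulAut.mul_apply]
  -- orbits
  haveI : Fintype K := Fintype.ofFinite K
  let O : (↥Z →* kˣ) → Finset (↥Z →* kˣ) := fun χ => Finset.univ.image fun x => act (cj x) χ
  have hOself : ∀ χ, χ ∈ O χ := fun χ => Finset.mem_image.2
    ⟨1, Finset.mem_univ _, by rw [map_one, hact_one]⟩
  have hOeq : ∀ χ ψ, ψ ∈ O χ → O ψ = O χ := by
    intro χ ψ hψ
    obtain ⟨x, -, rfl⟩ := Finset.mem_image.1 hψ
    ext ω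
    simp only [O, Finset.mem_image, Finset.mem_univ, true_and]
    constructor
    · rintro ⟨y, rfl⟩; exact ⟨y * x, by rw [map_mul, hact_mul]⟩
    · rintro ⟨y, rfl⟩; exact ⟨y * x⁻¹, by rw [← hact_mul, ← map_mul, inv_mul_cancel_right]⟩
  have hOdisj : ∀ χ ψ, O χ ≠ O ψ → O χ ∩ O ψ = ∅ := by
    intro χ ψ h
    by_contra h'
    obtain ⟨ω, hω⟩ := Finset.nonempty_iff_ne_empty.2 h'
    rw [Finset.mem_inter] at hω
    exact h ((hOeq χ ω hω.1).symm.trans (hOeq ψ ω hω.2))
  have hOmap : ∀ a χ, (O χ).image (act (φZ a)) = O (act (φZ a) χ) := by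
    intro a χ
    ext ω
    simp only [O, Finset.mem_image, Finset.mem_univ, true_and]
    constructor
    · rintro ⟨_, ⟨x, rfl⟩, rfl⟩
      exact ⟨φ a x, by rw [← hact_mul, ← hact_mul, hswap]⟩
    · rintro ⟨y, rfl⟩
      refine ⟨_, ⟨φ a⁻¹ y, rfl⟩, ?_⟩
      rw [← hact_mul, ← hact_mul, hswap, ← MulAut.mul_apply, ← map_mul, mul_inv_cancel, map_one,
        MulAut.one_apply]
  have hinj : ∀ f, Function.Injective (act f) := fun f χ ψ h => by
    have := congrArg (act f⁻¹) h
    rwa [← hact_mul, ← hact_mul, inv_mul_cancel, hact_one, hact_one] at this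
  let E : Finset (↥Z →* kˣ) → R := fun s => ∑ χ ∈ s, e χ
  have hEmul : ∀ s t, E s * E t = E (s ∩ t) := by
    intro s t
    simp only [E, Finset.sum_mul_sum, horth, Finset.sum_ite_eq]
    rw [← Finset.sum_filter, Finset.filter_mem_eq_inter]
  have hEtrans : ∀ (g : R) (f : MulAut ↥Z), (∀ z : ↥Z, g * ρ (z : K) = ρ (f z : K) * g) →
      ∀ s, g * E s = E (s.image (act f)) * g := by
    intro g f hg s
    simp only [E, Finset.mul_sum, Finset.sum_mul, Finset.sum_image ((hinj f).injOn), htrans g f hg]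
  have hρE : ∀ x χ, Commute (E (O χ)) (ρ x) := by
    intro x χ
    have h := hEtrans (ρ x) (cj x) (fun z => by simp [cj, ← map_mul]) (O χ)
    have himg : (O χ).image (act (cj x)) = O χ := by
      ext ω
      simp only [O, Finset.mem_image, Finset.mem_univ, true_and]
      constructor
      · rintro ⟨_, ⟨y, rfl⟩, rfl⟩
        exact ⟨x * y, by rw [map_mul, hact_mul]⟩
      · rintro ⟨y, rfl⟩
        exact ⟨_, ⟨x⁻¹ * y, rfl⟩, by rw [← hact_mul, ← map_mul, mul_inv_cancel_left]⟩
    rw [himg] at h
    exact h.symm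
  have hπE : ∀ a s, πS a * E s = E (s.image (act (φZ a))) * πS a := fun a s =>
    hEtrans (πS a) (φZ a) (fun z => hint a z) s
  -- the pieces
  have hpiece : ∀ χ, χ ≠ 1 → e χ = 0 := by
    intro χ hχ
    set EO : R := E (O χ) with hEO
    have hEE : EO * EO = EO := by rw [hEO, hEmul, Finset.inter_self]
    have heE : EO * e χ = e χ := by
      have h1 : e χ = E {χ} := by simp [E]
      rw [h1, hEO, hEmul, Finset.inter_singleton_of_mem (hOself χ)]
    have hfin : (∀ z : ↥Z, ρ (z : K) * EO = EO) → e χ = 0 := by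
      intro h
      obtain ⟨z, hz⟩ : ∃ z, χ z ≠ 1 := by
        by_contra h'; exact hχ (MonoidHom.ext fun z => not_not.1 fun hz => h' ⟨z, hz⟩)
      have h2 : ((χ z : kˣ) : k) • e χ = e χ := by
        rw [← hρe]
        calc ρ (z : K) * e χ = ρ (z : K) * (EO * e χ) := by rw [heE]
          _ = e χ := by rw [← mul_assoc, h, heE]
      have h3 : (((χ z : kˣ) : k) - 1) • e χ = 0 := by rw [sub_smul, one_smul, h2, sub_self]
      have hne : ((χ z : kˣ) : k) - 1 ≠ 0 := sub_ne_zero.2 fun h => hz (Units.ext h)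
      calc e χ = (((χ z : kˣ) : k) - 1)⁻¹ • ((((χ z : kˣ) : k) - 1) • e χ) :=
            (inv_smul_smul₀ hne _).symm
        _ = 0 := by rw [h3, smul_zero]
    set S : Finset (Equiv.Perm (Fin 3)) :=
      Finset.univ.filter (fun a => (O χ).image (act (φZ a)) = O χ) with hS
    have hS1 : (1 : Equiv.Perm (Fin 3)) ∈ S := Finset.mem_filter.2 ⟨Finset.mem_univ _, by
      rw [map_one]; exact Finset.image_id⟩
    have hSmul : ∀ a ∈ S, ∀ b ∈ S, a * b ∈ S := by
      intro a ha b hb
      rw [hS, Finset.mem_filter] at ha hb ⊢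
      refine ⟨Finset.mem_univ _, ?_⟩
      rw [map_mul]
      rw [show act (φZ a * φZ b) = act (φZ a) ∘ act (φZ b) from funext (hact_mul _ _),
        ← Finset.image_image, hb.2, ha.2]
    have hSsum : ∑ a ∈ S, EO * πS a = 0 := by
      have h0 : ∑ a, EO * πS a * EO = 0 := by
        rw [← Finset.sum_mul, ← Finset.mul_sum, hsum, mul_zero, zero_mul]
      rw [← h0, hS, Finset.sum_filter]
      refine Finset.sum_congr rfl (fun a _ => ?_)
      rw [mul_assoc, hEO, hπE, ← mul_assoc, hEmul]
      split_ifs with ha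
      · rw [ha, Finset.inter_self]
      · rw [hOmap] at ha ⊢
        rw [hOdisj χ _ (Ne.symm ha)]
        simp [E]
    have hmemS : ∀ a ∈ S, Commute EO (πS a) := fun a ha => by
      have h := hπE a (O χ)
      rw [(Finset.mem_filter.1 ha).2] at h
      exact h.symm
    let piece : K →* R :=
      { toFun := fun x => glue EO (1 : k) (ρ x)
        map_one' := by rw [map_one, glue_one]
        map_mul' := fun x y => by rw [glue_mul hEE (hρE x χ), one_mul, map_mul] }
    have hpiece_triv : (∀ n ∈ commutator K, piece.toHomUnits n = 1) → e χ = 0 := by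
      intro h
      apply hfin
      intro z
      have h1 : glue EO (1 : k) (ρ (z : K)) = 1 := congrArg Units.val (h z (hZle z.2))
      have h2 : EO * glue EO (1 : k) (ρ (z : K)) = EO := by rw [h1, mul_one]
      simp only [glue, one_smul, mul_add, mul_sub, mul_one, hEE, sub_self, zero_add,
        ← mul_assoc] at h2
      rw [← (hρE (z : K) χ).eq, h2]
    rcases perm_three_subgroups S hS1 hSmul with h | ⟨t, ht, ht1, h⟩ | ⟨s, hs, hs1, h⟩ | h
    · rw [h, Finset.sum_singleton, map_one, mul_one] at hSsum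
      rw [← heE, hSsum, zero_mul]
    · rw [h, Finset.sum_pair (Ne.symm ht1), map_one, mul_one] at hSsum
      have htS : t ∈ S := by rw [h]; simp
      have heq : EO * πS t = -EO := eq_neg_of_add_eq_zero_right hSsum
      refine hpiece_triv (map_commutator_eq_bot φ hcop hfpf t ht ht1 piece.toHomUnits
        (fun x => Units.ext ?_))
      show glue EO (1 : k) (ρ (φ t x)) = glue EO (1 : k) (ρ x)
      have h1 : EO * (πS t * ρ x) = EO * (ρ (φ t x) * πS t) := by rw [hint]
      rw [← mul_assoc, heq, ← mul_assoc, (hρE (φ t x) χ).eq, mul_assoc, heq, mul_neg, neg_mul,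
        neg_inj, ← (hρE (φ t x) χ).eq] at h1
      simp only [glue]; rw [h1]
    · obtain ⟨t, ht, ht1⟩ : ∃ t : Equiv.Perm (Fin 3), t * t = 1 ∧ t ≠ 1 := by decide
      have hsS : s ∈ S := by rw [h]; simp
      have hdist := perm_three_dist s hs hs1
      rw [h, Finset.sum_insert hdist.1, Finset.sum_pair hdist.2, map_one, mul_one] at hSsum
      obtain ⟨ω, hω⟩ := IsAlgClosed.exists_root
        (Polynomial.X ^ 2 + Polynomial.X + 1 : Polynomial k) (by
          have : (Polynomial.X ^ 2 + Polynomial.X + 1 : Polynomial k).degree = 2 := by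
            compute_degree!
          rw [this]; decide)
      have hω' : ω * ω + ω + 1 = 0 := by simpa [Polynomial.IsRoot, pow_two] using hω
      set A : R := glue EO ω (πS s) with hA
      have hA2 : A * A + A + 1 = 0 := by
        rw [hA, glue_mul hEE (hmemS s hsS), ← glue_one (k := k) EO, glue_add, glue_add, hω']
        simp only [glue, zero_smul, zero_add, mul_add, mul_one, ← map_mul]
        rw [← hSsum]; abel
      have hu1 : A * (-1 - A) = 1 := by
        calc A * (-1 - A) = 1 - (A * A + A + 1) := by noncomm_ring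
          _ = 1 := by rw [hA2, sub_zero]
      have hu2 : (-1 - A) * A = 1 := by
        calc (-1 - A) * A = 1 - (A * A + A + 1) := by noncomm_ring
          _ = 1 := by rw [hA2, sub_zero]
      have hconj : ∀ x, (⟨A, _, hu1, hu2⟩ : Rˣ) * piece.toHomUnits x * (⟨A, _, hu1, hu2⟩ : Rˣ)⁻¹
          = piece.toHomUnits (φ s x) := by
        intro x
        rw [mul_inv_eq_iff_eq_mul]
        apply Units.ext
        show A * glue EO (1 : k) (ρ x) = glue EO (1 : k) (ρ (φ s x)) * A
        rw [hA, glue_mul hEE (hmemS s hsS), glue_mul hEE (hρE _ χ), hint, mul_one, one_mul]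
      set P := p ^ (Nat.card K).factorization p with hP
      set m1 := Nat.card K / p ^ (Nat.card K).factorization p with hm1
      have hpprime : p.Prime := Fact.out
      have hunit : ∀ n : ℕ, ¬ p ∣ n → IsUnit (n : R) := fun n hn => by
        have : (n : k) ≠ 0 := fun h0 => hn ((CharP.cast_eq_zero_iff k p _).1 h0)
        simpa using (IsUnit.mk0 _ this).map (algebraMap k R)
      exact hpiece_triv (map_commutator_eq_bot_of_quadratic φ hcop hfpf s t hs hs1 ht ht1
        piece.toHomUnits ⟨A, _, hu1, hu2⟩ hA2 hconj P m1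
        (Nat.ordProj_mul_ordCompl_eq_self _ p).symm
        (hunit m1 (Nat.not_dvd_ordCompl hpprime Nat.card_pos.ne'))
        (hunit _ hp) (((hpprime.coprime_iff_not_dvd).2 hp).pow_left _))
    · -- the whole of `S₃` stabilizes the orbit
      exfalso
      obtain ⟨s, hs, hs1⟩ : ∃ s : Equiv.Perm (Fin 3), s * (s * s) = 1 ∧ s ≠ 1 := by decide
      obtain ⟨t, ht, ht1⟩ : ∃ t : Equiv.Perm (Fin 3), t * t = 1 ∧ t ≠ 1 := by decide
      obtain ⟨-, huniv, hst, hsst⟩ := perm_three_facts s t hs hs1 ht ht1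
      have hinv : ∀ a, ∀ ψ ∈ O χ, act (φZ a) ψ ∈ O χ := fun a ψ hψ => by
        have ha : a ∈ S := h ▸ Finset.mem_univ a
        rw [← (Finset.mem_filter.1 ha).2]
        exact Finset.mem_image_of_mem _ hψ
      have hcard : (O χ).card ∣ Nat.card K := by
        letI : MulAction K (↥Z →* kˣ) :=
          { smul := fun x ψ => act (cj x) ψ
            one_smul := fun ψ => by change act (cj 1) ψ = ψ; rw [map_one]; rfl
            mul_smul := fun x y ψ => by
              change act (cj (x * y)) ψ = act (cj x) (act (cj y) ψ); rw [map_mul]; rfl }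
        refine ⟨Nat.card (MulAction.stabilizer K χ), ?_⟩
        rw [← Nat.card_eq_finsetCard, Nat.card_congr (Equiv.subtypeEquivRight
          (q := fun ψ => ψ ∈ MulAction.orbit K χ) (fun ψ => by
            simp only [O, Finset.mem_image, Finset.mem_univ, true_and]; rfl)), ← Nat.card_prod]
        exact (Nat.card_congr (MulAction.orbitProdStabilizerEquivGroup K χ)).symm
      have hcop3 : ¬ 3 ∣ Fintype.card ↥(O χ) := fun h3 => by
        rw [Fintype.card_coe] at h3
        exact absurd (Nat.Coprime.eq_one_of_dvd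
          (hcop.coprime_dvd_right (show 3 ∣ 6 by norm_num)).symm (h3.trans hcard)) (by norm_num)
      have hcop2 : ¬ 2 ∣ Fintype.card ↥(O χ) := fun h2 => by
        rw [Fintype.card_coe] at h2
        exact absurd (Nat.Coprime.eq_one_of_dvd
          (hcop.coprime_dvd_right (show 2 ∣ 6 by norm_num)).symm (h2.trans hcard)) (by norm_num)
      let σO : Equiv.Perm ↥(O χ) :=
        { toFun := fun ψ => ⟨act (φZ s) ψ, hinv s _ ψ.2⟩
          invFun := fun ψ => ⟨act (φZ (s * s)) ψ, hinv _ _ ψ.2⟩
          left_inv := fun ψ => Subtype.ext (by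
            show act (φZ (s * s)) (act (φZ s) ψ) = ψ
            rw [← hact_mul, ← map_mul, mul_assoc, hs, map_one, hact_one])
          right_inv := fun ψ => Subtype.ext (by
            show act (φZ s) (act (φZ (s * s)) ψ) = ψ
            rw [← hact_mul, ← map_mul, hs, map_one, hact_one]) }
      have hσ3 : σO ^ 3 ^ 1 = 1 := Equiv.ext fun ψ => Subtype.ext (by
        show act (φZ s) (act (φZ s) (act (φZ s) ψ)) = ψ
        rw [← hact_mul, ← hact_mul, ← map_mul, ← map_mul, mul_assoc, hs, map_one, hact_one])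
      haveI : Fact (Nat.Prime 3) := ⟨Nat.prime_three⟩
      obtain ⟨⟨ψ, hψO⟩, hψ⟩ := Equiv.Perm.exists_fixed_point_of_prime hcop3 hσ3
      have hψs : act (φZ s) ψ = ψ := congrArg Subtype.val hψ
      have hsz : ∀ z, ψ (φZ s z) = ψ z := fun z => by
        conv_lhs => rw [← hψs]
        simp [act]
      have htt : ∀ z, φZ t (φZ t z) = z := fun z => by
        rw [← MulAut.mul_apply, ← map_mul, ht, map_one, MulAut.one_apply]
      have hst' : ∀ z, φZ s (φZ t z) = φZ t (φZ s (φZ s z)) := fun z => by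
        simp only [← MulAut.mul_apply, ← map_mul, hst]
      have hs3 : ∀ z, φZ s (φZ s (φZ s z)) = z := fun z => by
        simp only [← MulAut.mul_apply, ← map_mul, mul_assoc, hs, map_one, MulAut.one_apply]
      have hnorm : ∀ z, φZ t (z * φZ s z * φZ s (φZ s z)) = (z * φZ s z * φZ s (φZ s z))⁻¹ := by
        intro z
        set N := z * φZ s z * φZ s (φZ s z) with hN
        have hNs : φZ s N = N := by
          rw [hN]; simp only [map_mul, hs3]
          rw [mul_comm _ z, mul_assoc]
        have hW : N * φZ t N = 1 := by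
          apply Subtype.ext
          apply hfpf
          intro g
          have hWt : φZ t (N * φZ t N) = N * φZ t N := by rw [map_mul, htt, mul_comm]
          have hWs : φZ s (N * φZ t N) = N * φZ t N := by rw [map_mul, hst', hNs, hNs]
          have hg : g ∈ (Finset.univ : Finset (Equiv.Perm (Fin 3))) := Finset.mem_univ g
          rw [huniv] at hg
          simp only [List.mem_toFinset, List.mem_cons, List.not_mem_nil, or_false] at hg
          have key : φZ g (N * φZ t N) = N * φZ t N := by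
            rcases hg with rfl | rfl | rfl | rfl | rfl | rfl <;>
              simp only [map_one, MulAut.one_apply, map_mul φZ, MulAut.mul_apply, hWs, hWt]
          exact congrArg Subtype.val key
        exact (inv_eq_of_mul_eq_one_right hW).symm
      have hψt : act (φZ t) ψ = ψ⁻¹ := by
        ext z
        have hts : (φZ t).symm z = φZ t z :=
          (MulEquiv.symm_apply_eq (φZ t)).2 (htt z).symm
        simp only [act, MonoidHom.comp_apply, MulEquiv.coe_toMonoidHom, MonoidHom.inv_apply, hts]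
        congr 1
        apply mul_inv_eq_one.1 ?_ |> fun h => h
        rw [inv_inv]
        have h3 : (ψ (φZ t z) * ψ z) ^ 3 = 1 := by
          have e1 : ∀ w, ψ (w * φZ s w * φZ s (φZ s w)) = ψ w ^ 3 := fun w => by
            rw [map_mul, map_mul, hsz, hsz, hsz, pow_three']
          rw [mul_pow, ← e1, ← e1, ← map_mul]
          have e2 : φZ t z * φZ s (φZ t z) * φZ s (φZ s (φZ t z))
              = φZ t (z * φZ s z * φZ s (φZ s z)) := by
            rw [hst' z, hst' (φZ s (φZ s z)), hs3]
            simp only [map_mul]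
            exact mul_right_comm _ _ _
          rw [e2, hnorm, inv_mul_cancel, map_one]
        have hn : (ψ (φZ t z) * ψ z) ^ Nat.card ↥Z = 1 := by
          rw [← map_mul, ← map_pow, pow_card_eq_one', map_one]
        exact eq_one_of_pow_of_pow h3 hn (((hcop.coprime_dvd_right
          (show 3 ∣ 6 by norm_num)).coprime_dvd_left hZdvd).symm)
      have hψinv : ψ⁻¹ ∈ O χ := hψt ▸ hinv t ψ hψO
      have hclosed : ∀ ω ∈ O χ, ω⁻¹ ∈ O χ := by
        intro ω hω
        rw [← hOeq χ ψ hψO] at hω
        obtain ⟨x, -, rfl⟩ := Finset.mem_image.1 hω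
        rw [← hact_inv, ← hOeq χ ψ⁻¹ hψinv]
        exact Finset.mem_image_of_mem _ (Finset.mem_univ x)
      let ι : Equiv.Perm ↥(O χ) :=
        { toFun := fun ω => ⟨ω.1⁻¹, hclosed _ ω.2⟩
          invFun := fun ω => ⟨ω.1⁻¹, hclosed _ ω.2⟩
          left_inv := fun ω => Subtype.ext (inv_inv ω.1)
          right_inv := fun ω => Subtype.ext (inv_inv ω.1) }
      have hι2 : ι ^ 2 ^ 1 = 1 := Equiv.ext fun ω => Subtype.ext (inv_inv ω.1)
      haveI : Fact (Nat.Prime 2) := ⟨Nat.prime_two⟩
      obtain ⟨⟨ω, hωO⟩, hω⟩ := Equiv.Perm.exists_fixed_point_of_prime hcop2 hι2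
      have hω1 : ω = 1 := by
        have hω' : ω⁻¹ = ω := congrArg Subtype.val hω
        ext z
        have h2 : ω z ^ 2 = 1 := by
          rw [pow_two]; nth_rewrite 1 [← hω']; simp
        have hn : ω z ^ Nat.card ↥Z = 1 := by rw [← map_pow, pow_card_eq_one', map_one]
        simpa using congrArg Units.val (eq_one_of_pow_of_pow h2 hn (((hcop.coprime_dvd_right
          (show 2 ∣ 6 by norm_num)).coprime_dvd_left hZdvd).symm))
      apply hχ
      have hχω : χ ∈ O ω := by rw [hOeq χ ω hωO]; exact hOself χ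
      obtain ⟨x, -, rfl⟩ := Finset.mem_image.1 hχω
      rw [hω1]
      rfl
  -- conclusion
  have h1 : e 1 = 1 := by
    rw [← hesum]
    exact (Fintype.sum_eq_single 1 hpiece).symm
  apply hj
  rw [eq_bot_iff]
  intro z hz
  apply Subgroup.mem_bot.2
  apply hρ
  have h2 := hρe ⟨z, hz⟩ 1
  simpa [h1] using h2

end CfsgLib.S3FPF
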