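import Cfsg.Agent.Lib.S3FPF.FixCoset

/-!
# Fixed-point-free actions of the symmetric group of degree three: quotients centralized by a
transposition are abelian
-/

open scoped commutatorElement

namespace CfsgLib.S3FPF

/-- The combinatorics of the symmetric group of degree three. -/
lemma perm_three_facts : ∀ s t : Equiv.Perm (Fin 3), s * (s * s) = 1 → s ≠ 1 → t * t = 1 → t ≠ 1 →
    ([1, s, s * s, t, t * s, t * (s * s)] : List (Equiv.Perm (Fin 3))).Nodup ∧
    (Finset.univ : Finset (Equiv.Perm (Fin 3))) = [1, s, s * s, t, t * s, t * (s * s)].toFinset ∧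
    s * t = t * (s * s) ∧ s * s * t = t * s := by
  decide

section

variable {K : Type*} [Group K]

lemma eq_one_of_pow_of_pow {g : K} {m n : ℕ} (hm : g ^ m = 1) (hn : g ^ n = 1) (h : m.Coprime n) :
    g = 1 := by
  have hg : g ^ Nat.gcd m n = 1 := pow_gcd_eq_one.2 ⟨hm, hn⟩
  rwa [h.gcd_eq_one, pow_one] at hg

/-- An element of order prime to `k` lies in every subgroup containing its `k`-th power. -/
lemma mem_of_pow_mem {H : Subgroup K} {g : K} {k n : ℕ} (hn : g ^ n = 1) (h : k.Coprime n)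
    (hk : g ^ k ∈ H) : g ∈ H := by
  rcases Nat.eq_zero_or_pos n with rfl | hpos
  · rw [Nat.coprime_zero_right] at h
    simpa [h] using hk
  · obtain ⟨l, -, hl⟩ := Nat.exists_mul_mod_eq_of_coprime 1 h hpos.ne'
    have e : g ^ (k * l) = g ^ 1 :=
      pow_eq_pow_iff_modEq.2 ((show k * l ≡ 1 [MOD n] from hl).of_dvd (orderOf_dvd_of_pow_eq_one hn))
    rw [pow_one, pow_mul] at e
    rw [← e]; exact H.pow_mem hk l

end

variable {K Q : Type*} [Group K] [Finite K] [Group.IsSolvable K] [Group Q]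

/-- For an invariant subgroup `S`, the product over the six translates of an element of `S` lies in
the commutator subgroup of `S`. -/
lemma norm_mem (φ : Equiv.Perm (Fin 3) →* MulAut K) (hcop : (Nat.card K).Coprime 6)
    (hfpf : ∀ g, (∀ a, φ a g = g) → g = 1) (s t : Equiv.Perm (Fin 3))
    (hs : s * (s * s) = 1) (hs1 : s ≠ 1) (ht : t * t = 1) (ht1 : t ≠ 1)
    (S : Subgroup K) (hS : ∀ a, ∀ n ∈ S, φ a n ∈ S) (m : K) (hm : m ∈ S) :
    m * φ s m * φ s (φ s m) * φ t m * φ t (φ s m) * φ t (φ s (φ s m)) ∈ ⁅S, S⁆ := by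
  classical
  obtain ⟨hnd, huniv, -, -⟩ := perm_three_facts s t hs hs1 ht ht1
  have hcardA : Nat.card (Equiv.Perm (Fin 3)) = 6 := by
    rw [Nat.card_eq_fintype_card, Fintype.card_perm, Fintype.card_fin]; rfl
  let f : Equiv.Perm (Fin 3) → (↥S →* ↥S) := fun a =>
    { toFun := fun n => ⟨φ a n, hS a n n.2⟩
      map_one' := Subtype.ext (map_one (φ a))
      map_mul' := fun m n => Subtype.ext (map_mul (φ a) (m : K) (n : K)) }
  let q : ↥S →* Abelianization ↥S := Abelianization.of
  set P : Abelianization ↥S := ∏ a, q (f a ⟨m, hm⟩) with hP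
  obtain ⟨y, hy⟩ : ∃ y, q y = P := QuotientGroup.mk_surjective P
  have hyfix : ∀ a, q (f a y) = q y := by
    intro a
    have e : q (f a y) = Abelianization.map (f a) (q y) := by simp [q, Abelianization.map_of]
    rw [e, hy, hP, map_prod]
    refine Fintype.prod_equiv (Equiv.mulLeft a) _ _ (fun b => ?_)
    simp only [q, Abelianization.map_of, Equiv.coe_mulLeft]
    congr 1
    apply Subtype.ext
    simp [f, MulAut.mul_apply]
  have hD : ∀ n : ↥S, q n = 1 ↔ (n : K) ∈ ⁅S, S⁆ := by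
    intro n
    rw [← Subgroup.map_subtype_commutator, Subgroup.mem_map]
    constructor
    · intro h; exact ⟨n, (QuotientGroup.eq_one_iff _).1 h, rfl⟩
    · rintro ⟨n', hn', e⟩
      rw [← Subtype.ext e]; exact (QuotientGroup.eq_one_iff _).2 hn'
  have hDinv : ∀ a, ∀ n ∈ ⁅S, S⁆, φ a n ∈ ⁅S, S⁆ := by
    intro a n hn
    have hle : (⁅S, S⁆).map (φ a).toMonoidHom ≤ ⁅S, S⁆ := by
      rw [Subgroup.map_commutator]
      apply Subgroup.commutator_mono <;>
      · rintro _ ⟨k, hk, rfl⟩; exact hS a k hk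
    exact hle (Subgroup.mem_map_of_mem _ hn)
  have hyD : (y : K) ∈ ⁅S, S⁆ := by
    apply mem_of_invariant_coset φ (by rw [hcardA]; exact hcop.symm) hfpf _ hDinv
    intro a
    have : ((y⁻¹ * f a y : ↥S) : K) ∈ ⁅S, S⁆ := (hD _).1 (by
      rw [map_mul, map_inv, hyfix, inv_mul_cancel])
    exact this
  have hP1 : P = 1 := by rw [← hy]; exact (hD y).2 hyD
  rw [hP, huniv, List.prod_toFinset _ hnd] at hP1
  simp only [List.map_cons, List.map_nil, List.prod_cons, List.prod_nil, mul_one, ← map_mul] at hP1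
  have := (hD _).1 hP1
  simpa [f, MulAut.mul_apply, mul_assoc] using this

/-- The case where the second derived subgroup is killed. -/
lemma map_commutator_eq_bot_aux (φ : Equiv.Perm (Fin 3) →* MulAut K)
    (hcop : (Nat.card K).Coprime 6) (hfpf : ∀ g, (∀ a, φ a g = g) → g = 1)
    (t : Equiv.Perm (Fin 3)) (ht : t * t = 1) (ht1 : t ≠ 1)
    (π : K →* Q) (hπ : ∀ x, π (φ t x) = π x)
    (h2 : ∀ n ∈ ⁅commutator K, commutator K⁆, π n = 1) : ∀ n ∈ commutator K, π n = 1 := by
  obtain ⟨s, hs, hs1⟩ : ∃ s : Equiv.Perm (Fin 3), s * (s * s) = 1 ∧ s ≠ 1 := by decide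
  obtain ⟨-, -, hst, hsst⟩ := perm_three_facts s t hs hs1 ht ht1
  set D := commutator K with hDdef
  have hD : ∀ a, ∀ n ∈ D, φ a n ∈ D := by
    intro a n hn
    have hle : D.map (φ a).toMonoidHom ≤ D := by
      rw [hDdef, commutator_def, Subgroup.map_commutator]
      exact Subgroup.commutator_mono le_top le_top
    exact hle (Subgroup.mem_map_of_mem _ hn)
  -- elementary facts
  have hst' : ∀ x, φ s (φ t x) = φ t (φ s (φ s x)) := fun x => by
    simpa [map_mul, MulAut.mul_apply] using congrArg (fun a => φ a x) hst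
  have hsst' : ∀ x, φ s (φ s (φ t x)) = φ t (φ s x) := fun x => by
    simpa [map_mul, MulAut.mul_apply] using congrArg (fun a => φ a x) hsst
  have hs3 : ∀ x, φ s (φ s (φ s x)) = x := fun x => by
    simpa [map_mul, MulAut.mul_apply] using congrArg (fun a => φ a x) hs
  have hpow : ∀ x, π x ^ Nat.card K = 1 := fun x => by rw [← map_pow, pow_card_eq_one', map_one]
  have hc2 : (2 : ℕ).Coprime (Nat.card K) :=
    Nat.Coprime.coprime_dvd_left (by norm_num) hcop.symm
  have hc3 : (3 : ℕ).Coprime (Nat.card K) :=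
    Nat.Coprime.coprime_dvd_left (by norm_num) hcop.symm
  have hcomm : ∀ m ∈ D, ∀ n ∈ D, Commute (π m) (π n) := by
    intro m hm n hn
    have h := h2 ⁅m, n⁆ (Subgroup.commutator_mem_commutator hm hn)
    rw [map_commutatorElement, commutatorElement_eq_one_iff_commute] at h
    exact h
  -- the norm relation
  have hN : ∀ m ∈ D, π m * π (φ s m) * π (φ s (φ s m)) = 1 := by
    intro m hm
    have h := h2 _ (norm_mem φ hcop hfpf s t hs hs1 ht ht1 D hD m hm)
    simp only [map_mul, hπ] at h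
    have h' : (π m * π (φ s m) * π (φ s (φ s m))) ^ 2 = 1 := by
      rw [pow_two, ← h]; simp only [mul_assoc]
    apply eq_one_of_pow_of_pow h' ?_ hc2
    rw [← map_mul, ← map_mul]; exact hpow _
  have hNx : ∀ x, π x * π (φ s x) * π (φ s (φ s x)) ∈ D.map π := by
    intro x
    have h := norm_mem φ hcop hfpf s t hs hs1 ht ht1 ⊤ (fun _ _ _ => trivial) x trivial
    rw [← commutator_def, ← hDdef] at h
    have h' : π (x * φ s x * φ s (φ s x) * φ t x * φ t (φ s x) * φ t (φ s (φ s x))) ∈ D.map π :=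
      Subgroup.mem_map_of_mem π h
    simp only [map_mul, hπ] at h'
    apply mem_of_pow_mem (k := 2) (n := Nat.card K) ?_ hc2
    · rw [pow_two]; simpa only [mul_assoc] using h'
    · rw [← map_mul, ← map_mul]; exact hpow _
  have hconjD : ∀ x, ∀ n ∈ D, x * n * x⁻¹ ∈ D := fun x n hn =>
    (inferInstance : (commutator K).Normal).conj_mem n hn x
  -- first step: the image of `D` is central
  have hsame : ∀ x, ∀ m ∈ D, π (φ s x) * π m * (π (φ s x))⁻¹ = π x * π m * (π x)⁻¹ ∧
      π (φ s (φ s x)) * π m * (π (φ s (φ s x)))⁻¹ = π x * π m * (π x)⁻¹ := by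
    intro x m hm
    set a := π m with ha
    set m' := m * φ t m with hm'
    have hm'D : m' ∈ D := D.mul_mem hm (hD t m hm)
    have e0 : π m' = a * a := by rw [hm', map_mul, hπ]
    have hbc : π (φ s m) * π (φ s (φ s m)) = a⁻¹ := by
      refine (inv_eq_of_mul_eq_one_right ?_).symm
      rw [← mul_assoc]; exact hN m hm
    have e1 : π (φ s m') = a⁻¹ := by
      rw [hm', map_mul, map_mul, hst', hπ, hbc]
    have e2 : π (φ s (φ s m')) = a⁻¹ := by
      rw [hm', map_mul, map_mul, map_mul, hsst', hπ,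
        (hcomm _ (hD s _ (hD s m hm)) _ (hD s m hm)).eq, hbc]
    set y0 := π x with hy0
    set y1 := π (φ s x) with hy1
    set y2 := π (φ s (φ s x)) with hy2
    have hn0 : ∀ n ∈ D, (y0 * π n * y0⁻¹) * (y1 * π (φ s n) * y1⁻¹) *
        (y2 * π (φ s (φ s n)) * y2⁻¹) = 1 := by
      intro n hn
      have h := hN _ (hconjD x n hn)
      simpa only [map_mul, map_inv] using h
    have r0 := hn0 m' hm'D
    rw [e0, e1, e2] at r0
    have r2 := hn0 (φ s m') (hD s _ hm'D)
    rw [e1, e2, hs3, e0] at r2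
    have r1 := hn0 (φ s (φ s m')) (hD s _ (hD s _ hm'D))
    rw [e2, hs3, e0, e1] at r1
    set A0 := y0 * a * y0⁻¹ with hA0
    set A1 := y1 * a * y1⁻¹ with hA1
    set A2 := y2 * a * y2⁻¹ with hA2
    have i0 : y0 * a⁻¹ * y0⁻¹ = A0⁻¹ := by rw [hA0]; group
    have i1 : y1 * a⁻¹ * y1⁻¹ = A1⁻¹ := by rw [hA1]; group
    have i2 : y2 * a⁻¹ * y2⁻¹ = A2⁻¹ := by rw [hA2]; group
    have j0 : y0 * (a * a) * y0⁻¹ = A0 * A0 := by rw [hA0]; group
    have j1 : y1 * (a * a) * y1⁻¹ = A1 * A1 := by rw [hA1]; group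
    have j2 : y2 * (a * a) * y2⁻¹ = A2 * A2 := by rw [hA2]; group
    rw [j0, i1, i2] at r0
    rw [i0, i1, j2] at r2
    rw [i0, j1, i2] at r1
    have mA : ∀ z, π z * a * (π z)⁻¹ = π (z * m * z⁻¹) := fun z => by simp [ha, map_mul, map_inv]
    have c01 : Commute A0 A1 := by
      rw [hA0, hA1, hy0, hy1, mA, mA]; exact hcomm _ (hconjD _ m hm) _ (hconjD _ m hm)
    have c02 : Commute A0 A2 := by
      rw [hA0, hA2, hy0, hy2, mA, mA]; exact hcomm _ (hconjD _ m hm) _ (hconjD _ m hm)
    have c12 : Commute A1 A2 := by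
      rw [hA1, hA2, hy1, hy2, mA, mA]; exact hcomm _ (hconjD _ m hm) _ (hconjD _ m hm)
    have q0 : A0 * A0 = A2 * A1 := by
      calc A0 * A0 = (A0 * A0 * A1⁻¹ * A2⁻¹) * (A2 * A1) := by group
        _ = A2 * A1 := by rw [r0, one_mul]
    have q2 : A2 * A2 = A1 * A0 := by
      calc A2 * A2 = (A1 * A0) * (A0⁻¹ * A1⁻¹ * (A2 * A2)) := by group
        _ = A1 * A0 := by rw [r2, mul_one]
    have q1 : A1 * A1 = A0 * A2 := by
      calc A1 * A1 = A0 * (A0⁻¹ * (A1 * A1) * A2⁻¹) * A2 := by group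
        _ = A0 * A2 := by rw [r1, mul_one]
    have hA01 : A0 = A1 := by
      have h3 : (A0 * A1⁻¹) ^ 3 = 1 := by
        rw [c01.inv_right.mul_pow, inv_pow, mul_inv_eq_one, pow_three', pow_three', q0, q1,
          (c02.symm.mul_left c01.symm).eq, ← mul_assoc]
      refine mul_inv_eq_one.1 (eq_one_of_pow_of_pow h3 ?_ hc3)
      rw [hA0, hA1, hy0, hy1, mA, mA, ← map_inv, ← map_mul]; exact hpow _
    have hA02 : A0 = A2 := by
      have h3 : (A0 * A2⁻¹) ^ 3 = 1 := by
        rw [c02.inv_right.mul_pow, inv_pow, mul_inv_eq_one, pow_three', pow_three', q0, q2,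
          mul_assoc A2 A1 A0, (c12.symm.mul_right c02.symm).eq]
      refine mul_inv_eq_one.1 (eq_one_of_pow_of_pow h3 ?_ hc3)
      rw [hA0, hA2, hy0, hy2, mA, mA, ← map_inv, ← map_mul]; exact hpow _
    exact ⟨hA01.symm, hA02.symm⟩
  have hcentral : ∀ x, ∀ m ∈ D, Commute (π x) (π m) := by
    intro x m hm
    obtain ⟨d, hd, hde⟩ := hNx x
    have h1 := (hsame x m hm).2
    have hmx : π x * π m * (π x)⁻¹ = π (x * m * x⁻¹) := by simp [map_mul, map_inv]
    have h2' := (hsame x _ (hconjD x m hm)).1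
    rw [← hmx] at h2'
    have h3 : π x ^ 3 * π m * (π x ^ 3)⁻¹ = π m := by
      have hp : π d * π m * (π d)⁻¹ = π m := by rw [(hcomm d hd m hm).eq, mul_inv_cancel_right]
      rw [hde] at hp
      conv_rhs => rw [← hp]
      rw [pow_three']
      calc π x * π x * π x * π m * (π x * π x * π x)⁻¹
          = π x * (π x * (π x * π m * (π x)⁻¹) * (π x)⁻¹) * (π x)⁻¹ := by group
        _ = π x * (π (φ s x) * (π (φ s (φ s x)) * π m * (π (φ s (φ s x)))⁻¹) * (π (φ s x))⁻¹) *
              (π x)⁻¹ := by rw [← h2', ← h1]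
        _ = _ := by group
    have h4 : π x ^ 3 ∈ Subgroup.centralizer {π m} :=
      Subgroup.mem_centralizer_singleton_iff.2 (by
        calc π x ^ 3 * π m = (π x ^ 3 * π m * (π x ^ 3)⁻¹) * π x ^ 3 := by group
          _ = π m * π x ^ 3 := by rw [h3])
    exact Subgroup.mem_centralizer_singleton_iff.1 (mem_of_pow_mem (hpow x) hc3 h4)
  -- second step: the bilinear relation
  have hC : ∀ x, ∀ e ∈ D.map π, Commute e (π x) := by
    rintro x e ⟨n, hn, rfl⟩; exact (hcentral x n hn).symm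
  have hsplit : ∀ x, ∃ c ∈ D.map π, ∃ c' ∈ D.map π,
      π (φ s (x * φ t x)) = (π x)⁻¹ * c ∧ π (φ s (φ s (x * φ t x))) = (π x)⁻¹ * c' := by
    intro x
    obtain ⟨d, hd, hde⟩ := hNx x
    have k1 : π (φ s (x * φ t x)) = (π x)⁻¹ * π d := by
      rw [map_mul, map_mul, hst', hπ, hde]; group
    have k2 : π (φ s (φ s (x * φ t x))) = π (φ s (φ s x)) * π (φ s x) := by
      rw [map_mul, map_mul, map_mul, hsst', hπ]
    refine ⟨π d, ⟨d, hd, rfl⟩, π d * π ⁅φ s (φ s x), φ s x⁆, ?_, k1, ?_⟩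
    · refine (D.map π).mul_mem ⟨d, hd, rfl⟩ ⟨_, ?_, rfl⟩
      rw [hDdef, commutator_def]
      exact Subgroup.commutator_mem_commutator (Subgroup.mem_top _) (Subgroup.mem_top _)
    · have hmem : π ⁅φ s (φ s x), φ s x⁆ ∈ D.map π := ⟨_, by
        rw [hDdef, commutator_def]
        exact Subgroup.commutator_mem_commutator (Subgroup.mem_top _) (Subgroup.mem_top _), rfl⟩
      have hc0 := hC x _ hmem
      have hc1 : Commute (π ⁅φ s (φ s x), φ s x⁆) (π d) :=
        (hC d _ hmem)
      rw [k2, ← mul_assoc, ← (hc0.inv_right.mul_right hc1).eq, hde, map_commutatorElement,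
        commutatorElement_def]
      group
  intro n hn
  have hrange : ∀ x w, Commute (π x) (π w) := by
    intro x w
    obtain ⟨c1, hc1, c2, hc2', e1, e2⟩ := hsplit x
    obtain ⟨c1', hc1', c2', hc2'', f1, f2⟩ := hsplit w
    have hxw : ⁅x * φ t x, w * φ t w⁆ ∈ D := by
      rw [hDdef, commutator_def]
      exact Subgroup.commutator_mem_commutator (Subgroup.mem_top _) (Subgroup.mem_top _)
    have h := hN _ hxw
    simp only [map_commutatorElement] at h
    rw [e1, e2, f1, f2, map_mul, map_mul, hπ, hπ] at h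
    have hg : π ⁅x, w⁆ ∈ D.map π := ⟨_, by
      rw [hDdef, commutator_def]
      exact Subgroup.commutator_mem_commutator (Subgroup.mem_top _) (Subgroup.mem_top _), rfl⟩
    have hgx := hC x _ hg
    have hgw := hC w _ hg
    have key : ∀ y z c c' : Q, Commute ⁅y, z⁆ y → Commute ⁅y, z⁆ z → Commute c y → Commute c z →
        Commute c' y → Commute c' z → Commute c c' → ⁅y⁻¹ * c, z⁻¹ * c'⁆ = ⁅y, z⁆ := by
      intro y z c c' a1 a2 b1 b2 b3 b4 b5
      calc ⁅y⁻¹ * c, z⁻¹ * c'⁆ = y⁻¹ * ((c * (z⁻¹ * c')) * c⁻¹) * y * (c'⁻¹ * z) := by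
            rw [commutatorElement_def]; group
        _ = y⁻¹ * z⁻¹ * (c' * y) * c'⁻¹ * z := by
            rw [(b2.inv_right.mul_right b5).eq, mul_inv_cancel_right]; group
        _ = y⁻¹ * z⁻¹ * (y * z) := by rw [b3.eq]; group
        _ = (z * y)⁻¹ * (⁅y, z⁆ * (z * y)) := by rw [commutatorElement_def]; group
        _ = ⁅y, z⁆ := by rw [(a2.mul_right a1).eq, inv_mul_cancel_left]
    have cc : ∀ a ∈ D.map π, ∀ b ∈ D.map π, Commute a b := by
      rintro _ ⟨i, hi, rfl⟩ _ ⟨j, hj, rfl⟩; exact hcomm i hi j hj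
    rw [map_commutatorElement] at hgx hgw
    rw [key _ _ _ _ hgx hgw (hC x _ hc1) (hC w _ hc1) (hC x _ hc1') (hC w _ hc1') (cc _ hc1 _ hc1'),
      key _ _ _ _ hgx hgw (hC x _ hc2') (hC w _ hc2') (hC x _ hc2'') (hC w _ hc2'')
        (cc _ hc2' _ hc2'')] at h
    set g := ⁅π x, π w⁆ with hgdef
    have e4 : ⁅π x * π x, π w * π w⁆ = g ^ 4 := by
      have s1 : π x * π w * (π x)⁻¹ = g * π w := by rw [hgdef, commutatorElement_def]; group
      have s2 : π x * (π w * π w) * (π x)⁻¹ = g ^ 2 * (π w * π w) := by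
        calc π x * (π w * π w) * (π x)⁻¹ = (π x * π w * (π x)⁻¹) * (π x * π w * (π x)⁻¹) := by group
          _ = g * (π w * g) * π w := by rw [s1]; group
          _ = g * (g * π w) * π w := by rw [hgw.eq]
          _ = _ := by rw [pow_two, mul_assoc g g, mul_assoc g (g * π w), mul_assoc g (π w)]
      calc ⁅π x * π x, π w * π w⁆
          = (π x * (π x * (π w * π w) * (π x)⁻¹) * (π x)⁻¹) * (π w * π w)⁻¹ := by
            rw [commutatorElement_def]; group
        _ = (π x * g ^ 2) * ((π w * π w) * (π x)⁻¹) * (π w * π w)⁻¹ := by rw [s2]; group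
        _ = g ^ 2 * (π x * (π w * π w) * (π x)⁻¹) * (π w * π w)⁻¹ := by
            rw [(hgx.pow_left 2).eq.symm]; group
        _ = g ^ 4 := by rw [s2]; group
    rw [e4] at h
    have h6 : g ^ 6 = 1 := by rw [← h]; group
    rw [← commutatorElement_eq_one_iff_commute, ← hgdef]
    apply eq_one_of_pow_of_pow h6 ?_ hcop.symm
    rw [hgdef, ← map_commutatorElement]; exact hpow _
  have hle : D ≤ π.ker := by
    rw [hDdef, commutator_def, Subgroup.commutator_le]
    intro x _ w _
    rw [MonoidHom.mem_ker, map_commutatorElement, commutatorElement_eq_one_iff_commute]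
    exact hrange x w
  exact hle hn

/-- If the kernel of `π` contains the commutators with a transposition, then the image of `π` is
abelian. -/
theorem map_commutator_eq_bot (φ : Equiv.Perm (Fin 3) →* MulAut K)
    (hcop : (Nat.card K).Coprime 6) (hfpf : ∀ g, (∀ a, φ a g = g) → g = 1)
    (t : Equiv.Perm (Fin 3)) (ht : t * t = 1) (ht1 : t ≠ 1)
    (π : K →* Q) (hπ : ∀ x, π (φ t x) = π x) : ∀ n ∈ commutator K, π n = 1 := by
  let D2 : Subgroup K := ⁅commutator K, commutator K⁆
  haveI : D2.Normal := Subgroup.commutator_normal _ _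
  let N2 : Subgroup π.range := D2.map π.rangeRestrict
  haveI : N2.Normal := Subgroup.Normal.map inferInstance _ π.rangeRestrict_surjective
  have key := map_commutator_eq_bot_aux φ hcop hfpf t ht ht1
    ((QuotientGroup.mk' N2).comp π.rangeRestrict)
    (fun x => by
      simp only [MonoidHom.comp_apply]
      exact congrArg _ (Subtype.ext (hπ x)))
    (fun n hn => (QuotientGroup.eq_one_iff _).2 (Subgroup.mem_map_of_mem π.rangeRestrict hn))
  have h12 : (commutator K).map π ≤ D2.map π := by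
    rintro _ ⟨n, hn, rfl⟩
    obtain ⟨m, hm, e⟩ := (QuotientGroup.eq_one_iff _).1 (key n hn)
    exact ⟨m, hm, congrArg Subtype.val e⟩
  have hall : ∀ j, (commutator K).map π ≤ (derivedSeries K (j + 1)).map π := by
    intro j
    induction j with
    | zero => simp
    | succ j ih =>
      refine h12.trans ?_
      show ((⁅commutator K, commutator K⁆ : Subgroup K)).map π ≤ _
      rw [Subgroup.map_commutator, derivedSeries_succ K (j + 1), Subgroup.map_commutator]
      exact Subgroup.commutator_mono ih ih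
  obtain ⟨l, hl⟩ := (inferInstance : Group.IsSolvable K).solvable
  have hl' : derivedSeries K (l + 1) = ⊥ :=
    le_bot_iff.1 (hl ▸ derivedSeries_antitone K (Nat.le_succ l))
  intro n hn
  have h := hall l (Subgroup.mem_map_of_mem π hn)
  rw [hl', Subgroup.map_bot, Subgroup.mem_bot] at h
  exact h

end CfsgLib.S3FPF
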