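import Cfsg.Agent.Lib.S3FPF.Algebra
import Cfsg.Agent.Lib.S3FPF.Quot

/-!
# The piece on which a three-cycle has minimal polynomial `x² + x + 1`
-/

open scoped commutatorElement

namespace CfsgLib.S3FPF

section

variable {Q : Type*} [Group Q]

lemma commutator_pow_left {x w : Q} (hx : Commute ⁅x, w⁆ x) (n : ℕ) :
    ⁅x ^ n, w⁆ = ⁅x, w⁆ ^ n := by
  induction n with
  | zero => simp [commutatorElement_def]
  | succ n ih =>
    calc ⁅x ^ (n + 1), w⁆ = x * ⁅x ^ n, w⁆ * x⁻¹ * ⁅x, w⁆ := by
          rw [pow_succ', commutatorElement_def, commutatorElement_def, commutatorElement_def]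
          group
      _ = ⁅x, w⁆ ^ (n + 1) := by
          rw [ih, ← (hx.pow_left n).eq, mul_inv_cancel_right, ← pow_succ]

lemma mul_pow_of_central {A B : Q} (hA : Commute ⁅B, A⁆ A) (hB : Commute ⁅B, A⁆ B) (n : ℕ) :
    (A * B) ^ n = A ^ n * B ^ n * ⁅B, A⁆ ^ n.choose 2 := by
  induction n with
  | zero => simp
  | succ n ih =>
    have h1 : B ^ n * A = ⁅B, A⁆ ^ n * A * B ^ n := by
      rw [← commutator_pow_left hB n, commutatorElement_def]; group
    calc (A * B) ^ (n + 1) = A ^ n * B ^ n * (⁅B, A⁆ ^ n.choose 2 * (A * B)) := by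
          rw [pow_succ, ih]; simp only [mul_assoc]
      _ = A ^ n * (B ^ n * A) * (B * ⁅B, A⁆ ^ n.choose 2) := by
          rw [((hA.mul_right hB).pow_left _).eq]; group
      _ = A ^ n * ((⁅B, A⁆ ^ n * A) * B ^ n) * (B * ⁅B, A⁆ ^ n.choose 2) := by rw [h1]
      _ = A ^ n * A * (⁅B, A⁆ ^ n * (B ^ n * B)) * ⁅B, A⁆ ^ n.choose 2 := by
          rw [(hA.pow_left n).eq]; group
      _ = A ^ (n + 1) * B ^ (n + 1) * ⁅B, A⁆ ^ (n + 1).choose 2 := by
          rw [← pow_succ B n, ((hB.pow_left n).pow_right (n + 1)).eq, Nat.choose_succ_succ,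
            Nat.choose_one_right, pow_add, pow_succ A n]
          group

end

variable {K R : Type*} [Group K] [Finite K] [Group.IsSolvable K] [Ring R]

theorem map_commutator_eq_bot_of_quadratic (φ : Equiv.Perm (Fin 3) →* MulAut K)
    (hcop : (Nat.card K).Coprime 6) (hfpf : ∀ g, (∀ a, φ a g = g) → g = 1)
    (s t : Equiv.Perm (Fin 3)) (hs : s * (s * s) = 1) (hs1 : s ≠ 1) (ht : t * t = 1) (ht1 : t ≠ 1)
    (π : K →* Rˣ) (a : Rˣ) (ha : (a : R) * a + a + 1 = 0)
    (hconj : ∀ x, a * π x * a⁻¹ = π (φ s x))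
    (P m1 : ℕ) (hK : Nat.card K = P * m1) (hm1 : IsUnit (m1 : R))
    (hD : IsUnit ((Nat.card ↥(commutator K) : ℕ) : R))
    (hP : P.Coprime (Nat.card ↥(commutator K))) :
    ∀ n ∈ commutator K, π n = 1 := by
  classical
  set D := commutator K with hDdef
  obtain ⟨-, huniv, hst, -⟩ := perm_three_facts s t hs hs1 ht ht1
  have hcop2 : (Nat.card K).Coprime 2 := hcop.coprime_dvd_right (by norm_num)
  have hcop3 : (Nat.card K).Coprime 3 := hcop.coprime_dvd_right (by norm_num)
  have hDdvd : Nat.card ↥D ∣ Nat.card K := Subgroup.card_subgroup_dvd_card _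
  have hm1dvd : m1 ∣ Nat.card K := ⟨P, by rw [hK, mul_comm]⟩
  have hDpow : ∀ n ∈ D, n ^ Nat.card ↥D = 1 := fun n hn => by
    have h : (⟨n, hn⟩ : ↥D) ^ Nat.card ↥D = 1 := pow_card_eq_one'
    have h' := congrArg Subtype.val h
    rwa [SubmonoidClass.coe_pow, OneMemClass.coe_one] at h' 
  have hs3 : ∀ x, φ s (φ s (φ s x)) = x := fun x => by
    simpa [map_mul, MulAut.mul_apply] using congrArg (fun a => φ a x) hs
  have hst' : ∀ x, φ s (φ t x) = φ t (φ s (φ s x)) := fun x => by
    simpa [map_mul, MulAut.mul_apply] using congrArg (fun a => φ a x) hst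
  -- commutation of `u_x = π (x⁻¹ σ x)` with fixed elements
  have hucomm : ∀ x d, π (φ s d) = π d → π (φ s (x * d * x⁻¹)) = π (x * d * x⁻¹) →
      Commute (π (x⁻¹ * φ s x)) (π d) := by
    intro x d h1 h2
    simp only [map_mul, map_inv, h1] at h2
    rw [map_mul, map_inv]
    calc (π x)⁻¹ * π (φ s x) * π d
        = (π x)⁻¹ * (π (φ s x) * π d * (π (φ s x))⁻¹) * π (φ s x) := by group
      _ = _ := by rw [h2]; group
  -- the main lemma, applied
  have hquad : ∀ (x : K) (m : ℕ), π (x⁻¹ * φ s x) ^ m = 1 → IsUnit (m : R) → m ∣ Nat.card K →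
      Commute (π ⁅x⁻¹ * φ s x, φ s (x⁻¹ * φ s x)⁆) (π (x⁻¹ * φ s x)) →
      Commute (π ⁅x⁻¹ * φ s x, φ s (x⁻¹ * φ s x)⁆) (π (φ s (x⁻¹ * φ s x))) →
      π ⁅x⁻¹ * φ s x, φ s (x⁻¹ * φ s x)⁆ ^ m = 1 → π (φ s x) = π x := by
    intro x m hum hmu hmd hc1 hc2 hzm
    have hu : (π x)⁻¹ * a * π x * a⁻¹ = π (x⁻¹ * φ s x) := by
      rw [map_mul, map_inv, ← hconj x]; group
    have hv : a * ((π x)⁻¹ * a * π x * a⁻¹) * a⁻¹ = π (φ s (x⁻¹ * φ s x)) := by
      rw [hu, hconj]
    have hmodd : Odd m := by
      rw [← Nat.coprime_two_right]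
      exact hcop2.coprime_dvd_left hmd
    have h := comm_eq_one_of_quadratic a (π x) ha m (by rw [hu]; exact hum) hmu hmodd
      (hcop3.coprime_dvd_left hmd) (π ⁅x⁻¹ * φ s x, φ s (x⁻¹ * φ s x)⁆)
      (by rw [hu]; exact hc1) (by rw [hv]; exact hc2)
      (by rw [hv, hu, map_commutatorElement, commutatorElement_def]; group) hzm
    rw [hu, map_mul, map_inv, inv_mul_eq_one] at h
    exact h.symm
  -- invariance of the derived series
  have hDinv : ∀ j, ∀ n ∈ derivedSeries K j, φ s n ∈ derivedSeries K j := fun j n hn => by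
    have h := Subgroup.characteristic_iff_map_le.1 (derivedSeries_characteristic K j) (φ s)
    exact h (Subgroup.mem_map_of_mem _ hn)
  -- first step: the derived subgroup is fixed
  obtain ⟨l, hl⟩ := (inferInstance : Group.IsSolvable K).solvable
  have stepA : ∀ i j, l ≤ i + j → ∀ x ∈ derivedSeries K (j + 1), π (φ s x) = π x := by
    intro i
    induction i with
    | zero =>
      intro j hj x hx
      have hx1 : x = 1 := by
        have := derivedSeries_antitone K (show l ≤ j + 1 by omega) hx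
        rwa [hl, Subgroup.mem_bot] at this
      subst hx1; simp
    | succ i ih =>
      intro j hj x hx
      have hfix := ih (j + 1) (by omega)
      have hN := derivedSeries_normal K (j + 1 + 1)
      have he : x⁻¹ * φ s x ∈ derivedSeries K (j + 1) :=
        mul_mem (inv_mem hx) (hDinv _ x hx)
      have hz : ⁅x⁻¹ * φ s x, φ s (x⁻¹ * φ s x)⁆ ∈ derivedSeries K (j + 1 + 1) := by
        rw [derivedSeries_succ K (j + 1)]
        exact Subgroup.commutator_mem_commutator he (hDinv _ _ he)
      have hDle : derivedSeries K (j + 1) ≤ D := by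
        rw [hDdef, ← derivedSeries_one]; exact derivedSeries_antitone K (by omega)
      refine hquad x (Nat.card ↥D) ?_ hD hDdvd ?_ ?_ ?_
      · rw [← map_pow, hDpow _ (hDle he), map_one]
      · exact (hucomm x _ (hfix _ hz) (hfix _ (hN.conj_mem _ hz x))).symm
      · have := hucomm (φ s x) _ (hfix _ hz) (hfix _ (hN.conj_mem _ hz (φ s x)))
        rw [show (φ s x)⁻¹ * φ s (φ s x) = φ s (x⁻¹ * φ s x) by simp] at this
        exact this.symm
      · rw [← map_pow, hDpow _ (hDle (derivedSeries_antitone K (by omega) hz)), map_one]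
  have hfixD : ∀ x ∈ D, π (φ s x) = π x := fun x hx =>
    stepA l 0 (by omega) x (by rw [zero_add, derivedSeries_one]; exact hx)
  have hconjD : ∀ x, ∀ n ∈ D, x * n * x⁻¹ ∈ D := fun x n hn =>
    (inferInstance : (commutator K).Normal).conj_mem n hn x
  have hcommD : ∀ p q : K, ⁅p, q⁆ ∈ D := fun p q => by
    rw [hDdef, commutator_def]
    exact Subgroup.commutator_mem_commutator (Subgroup.mem_top _) (Subgroup.mem_top _)
  -- fixed points of `σ` commute
  have hCab : ∀ c d, φ s c = c → φ s d = d → Commute c d := by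
    let C : Subgroup K :=
      { carrier := {c | φ s c = c}
        one_mem' := map_one _
        mul_mem' := fun {x y} (hx : φ s x = x) (hy : φ s y = y) =>
          show φ s (x * y) = x * y by rw [map_mul, hx, hy]
        inv_mem' := fun {x} (hx : φ s x = x) =>
          show φ s x⁻¹ = x⁻¹ by rw [map_inv, hx] }
    have htC : ∀ c : ↥C, φ t (c : K) ∈ C := fun c => by
      have hc : φ s (c : K) = c := c.2
      show φ s (φ t (c : K)) = φ t (c : K)
      rw [hst', hc, hc]
    let f : ↥C → ↥C := fun c => ⟨(c : K)⁻¹ * φ t (c : K), C.mul_mem (C.inv_mem c.2) (htC c)⟩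
    have hf : Function.Injective f := by
      intro c d h
      have h' : (c : K)⁻¹ * φ t (c : K) = (d : K)⁻¹ * φ t (d : K) := congrArg Subtype.val h
      have hfix : φ t ((d : K) * (c : K)⁻¹) = (d : K) * (c : K)⁻¹ := by
        calc φ t ((d : K) * (c : K)⁻¹) = φ t (d : K) * (φ t (c : K))⁻¹ := by simp
          _ = (d : K) * ((d : K)⁻¹ * φ t (d : K)) * (φ t (c : K))⁻¹ := by group
          _ = _ := by rw [← h']; group
      have hsfix : φ s ((d : K) * (c : K)⁻¹) = (d : K) * (c : K)⁻¹ := by
        have hc : φ s (c : K) = c := c.2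
        have hd : φ s (d : K) = d := d.2
        simp [hc, hd]
      have : (d : K) * (c : K)⁻¹ = 1 := hfpf _ fun g => by
        have hg : g ∈ (Finset.univ : Finset (Equiv.Perm (Fin 3))) := Finset.mem_univ g
        rw [huniv] at hg
        simp only [List.mem_toFinset, List.mem_cons, List.not_mem_nil, or_false] at hg
        rcases hg with rfl | rfl | rfl | rfl | rfl | rfl <;>
          simp only [map_one, MulAut.one_apply, map_mul φ, MulAut.mul_apply, hsfix, hfix]
      exact Subtype.ext (mul_inv_eq_one.1 this).symm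
    have hinv : ∀ y : ↥C, φ t (y : K) = (y : K)⁻¹ := fun y => by
      obtain ⟨c, rfl⟩ := Finite.surjective_of_injective hf y
      have htt : φ t (φ t (c : K)) = c := by
        simpa [map_mul, MulAut.mul_apply] using congrArg (fun a => φ a (c : K)) ht
      simp [f, htt]
    intro c d hc hd
    have h := hinv (⟨c, hc⟩ * ⟨d, hd⟩)
    simp only [Subgroup.coe_mul, map_mul, hinv ⟨c, hc⟩, hinv ⟨d, hd⟩, mul_inv_rev] at h
    have : Commute c⁻¹ d⁻¹ := h
    exact Commute.inv_inv_iff.1 this
  have hlift : ∀ x, π (φ s x) = π x → ∃ c, φ s c = c ∧ π c = π x := by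
    intro x hx
    let A : Subgroup (Equiv.Perm (Fin 3)) := Subgroup.zpowers s
    have hpowr : ∀ (k : ℕ) (y : K), π (φ s y) = π y → π (φ (s ^ k) y) = π y := by
      intro k
      induction k with
      | zero => simp
      | succ k ih =>
        intro y hy
        rw [pow_succ, map_mul, MulAut.mul_apply, ih (φ s y) ?_, hy]
        rw [← hconj (φ s y), hy, hconj y, hy]
    have hA : ∀ g : ↥A, ∃ k : ℕ, s ^ k = (g : Equiv.Perm (Fin 3)) := fun g =>
      (isOfFinOrder_of_finite s).mem_powers_iff_mem_zpowers.2 g.2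
    have hcopA : (Nat.card ↥A).Coprime (Nat.card K) := by
      refine Nat.Coprime.coprime_dvd_left ?_ hcop.symm
      refine (Subgroup.card_subgroup_dvd_card A).trans (dvd_of_eq ?_)
      rw [Nat.card_eq_fintype_card, Fintype.card_perm, Fintype.card_fin]; rfl
    have hfix1 : ∀ n, π n = 1 → π (φ s n) = π n := fun n hn => by
      rw [← hconj, hn, mul_one, mul_inv_cancel]
    obtain ⟨c, hc, hcfix⟩ := exists_fixed_in_coset (φ.comp A.subtype) hcopA π.ker
      (fun g n hn => by
        obtain ⟨k, hk⟩ := hA g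
        simp only [MonoidHom.mem_ker, MonoidHom.comp_apply, Subgroup.coe_subtype, ← hk] at hn ⊢
        rw [hpowr k n (hfix1 n hn), hn]) x
      (fun g => by
        obtain ⟨k, hk⟩ := hA g
        simp only [MonoidHom.mem_ker, MonoidHom.comp_apply, Subgroup.coe_subtype, ← hk]
        rw [map_mul, map_inv, hpowr k x hx, inv_mul_cancel])
    refine ⟨c, hcfix ⟨s, Subgroup.mem_zpowers s⟩, ?_⟩
    rw [MonoidHom.mem_ker, map_mul, map_inv, inv_mul_eq_one] at hc
    exact hc.symm
  have hfixcomm : ∀ x y, π (φ s x) = π x → π (φ s y) = π y → Commute (π x) (π y) := by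
    intro x y hx hy
    obtain ⟨c, hc, hcx⟩ := hlift x hx
    obtain ⟨d, hd, hdy⟩ := hlift y hy
    rw [← hcx, ← hdy]; exact (hCab c d hc hd).map π
  -- second step: the image of `D` is central
  have hcentral : ∀ x, ∀ n ∈ D, Commute (π x) (π n) := by
    intro x n hn
    set b := x * φ s x * φ s (φ s x) with hb
    set e := b⁻¹ * φ s b with he
    have heD : e ∈ D := by
      have : e = ⁅(φ s x * φ s (φ s x))⁻¹, x⁻¹⁆ := by
        rw [he, hb, commutatorElement_def]; simp only [map_mul, hs3]; group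
      rw [this]; exact hcommD _ _
    have hbfix : π (φ s b) = π b := by
      have f1 : π (φ s b) = π b * π e := by rw [he, ← map_mul]; congr 1; group
      have f2 : ∀ y, π (φ s y) = π y * π e → π (φ s (φ s y)) = π y * π e * π e := by
        intro y hy
        rw [← hconj (φ s y), hy, show a * (π y * π e) * a⁻¹ = (a * π y * a⁻¹) * (a * π e * a⁻¹) by
          group, hconj, hconj, hy, hfixD e heD]
      have f3 : π (φ s (φ s (φ s b))) = π b * π e * π e * π e := by
        have := f2 b f1
        rw [← hconj (φ s (φ s b)), this, show a * (π b * π e * π e) * a⁻¹ =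
          (a * π b * a⁻¹) * (a * π e * a⁻¹) * (a * π e * a⁻¹) by group, hconj, hconj, f1,
          hfixD e heD]
      rw [hs3] at f3
      have e3 : π e ^ 3 = 1 := by
        apply mul_left_cancel (a := π b)
        rw [mul_one]; conv_rhs => rw [f3]
        rw [pow_three', ← mul_assoc, ← mul_assoc]
      have ee : π e = 1 := eq_one_of_pow_of_pow e3
        (by rw [← map_pow, hDpow e heD, map_one]) (hcop3.coprime_dvd_left hDdvd).symm
      rw [f1, ee, mul_one]
    have hbn : ∀ k ∈ D, Commute (π b) (π k) := fun k hk => hfixcomm b k hbfix (hfixD k hk)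
    have hU : ∀ y, ∀ k ∈ D, π (φ s y) * π k * (π (φ s y))⁻¹ = π y * π k * (π y)⁻¹ := by
      intro y k hk
      have h := hucomm y k (hfixD k hk) (hfixD _ (hconjD y k hk))
      rw [map_mul, map_inv] at h
      calc π (φ s y) * π k * (π (φ s y))⁻¹
          = π y * (((π y)⁻¹ * π (φ s y)) * π k) * (π (φ s y))⁻¹ := by group
        _ = _ := by rw [h.eq]; group
    have hmx : π x * π n * (π x)⁻¹ = π (x * n * x⁻¹) := by simp [map_mul, map_inv]
    have h3 : π x ^ 3 * π n * (π x ^ 3)⁻¹ = π n := by
      have h2' := hU x _ (hconjD x n hn)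
      rw [← hmx] at h2'
      conv_rhs => rw [← mul_inv_cancel_right (π n) (π b), ← (hbn n hn).eq]
      rw [pow_three']
      calc π x * π x * π x * π n * (π x * π x * π x)⁻¹
          = π x * (π x * (π x * π n * (π x)⁻¹) * (π x)⁻¹) * (π x)⁻¹ := by group
        _ = π x * (π (φ s x) * (π (φ s (φ s x)) * π n * (π (φ s (φ s x)))⁻¹) * (π (φ s x))⁻¹) *
              (π x)⁻¹ := by rw [← h2', hU (φ s x) n hn, hU x n hn]
        _ = π b * π n * (π b)⁻¹ := by rw [hb, map_mul, map_mul]; group
    have h4 : π x ^ 3 ∈ Subgroup.centralizer {π n} :=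
      Subgroup.mem_centralizer_singleton_iff.2 (by
        calc π x ^ 3 * π n = (π x ^ 3 * π n * (π x ^ 3)⁻¹) * π x ^ 3 := by group
          _ = π n * π x ^ 3 := by rw [h3])
    exact Subgroup.mem_centralizer_singleton_iff.1
      (mem_of_pow_mem (n := Nat.card K) (by rw [← map_pow, pow_card_eq_one', map_one]) hcop3.symm h4)
  -- third step: elements of order dividing `m1` are fixed
  have hC : ∀ p q y : K, Commute (π ⁅p, q⁆) (π y) := fun p q y => (hcentral y _ (hcommD p q)).symm
  have hcpow : ∀ p q : K, p ^ m1 = 1 → π ⁅p, q⁆ ^ m1 = 1 := by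
    intro p q hp
    have h := commutator_pow_left (x := π p) (w := π q) (by rw [← map_commutatorElement]; exact hC p q p) m1
    rw [← map_pow, hp, map_one, commutatorElement_one_left, ← map_commutatorElement] at h
    exact h.symm
  have hfix' : ∀ x : K, x ^ m1 = 1 → π (φ s x) = π x := by
    intro x hx
    have hxi : (x⁻¹) ^ m1 = 1 := by rw [inv_pow, hx, inv_one]
    have hsx : (φ s x) ^ m1 = 1 := by rw [← map_pow, hx, map_one]
    have hz0 := hcpow (φ s x) x⁻¹ hsx
    have hum : π (x⁻¹ * φ s x) ^ m1 = 1 := by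
      rw [map_mul, mul_pow_of_central (by rw [← map_commutatorElement]; exact hC _ _ _)
        (by rw [← map_commutatorElement]; exact hC _ _ _), ← map_pow, ← map_pow, hxi, hsx,
        map_one, one_mul, one_mul, ← map_commutatorElement]
      obtain ⟨k, hk⟩ : m1 ∣ m1.choose 2 := by
        have hodd : Odd m1 := by
          rw [← Nat.coprime_two_right]; exact hcop2.coprime_dvd_left hm1dvd
        obtain ⟨k, hk⟩ := hodd
        refine ⟨k, ?_⟩
        rw [Nat.choose_two_right, hk, Nat.add_sub_cancel,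
          show (2 * k + 1) * (2 * k) = (2 * k + 1) * k * 2 by ring, Nat.mul_div_cancel _ two_pos]
      rw [hk, pow_mul, hz0, one_pow]
    refine hquad x m1 hum hm1 hm1dvd (hC _ _ _) (hC _ _ _) ?_
    have h := commutator_pow_left (x := π (x⁻¹ * φ s x)) (w := π (φ s (x⁻¹ * φ s x)))
      (by rw [← map_commutatorElement]; exact hC _ _ _) m1
    rw [hum, commutatorElement_one_left, ← map_commutatorElement] at h
    exact h.symm
  have hrange : ∀ x w : K, π ⁅x, w⁆ = 1 := by
    intro x w
    have hp : ∀ y : K, (y ^ P) ^ m1 = 1 := fun y => by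
      rw [← pow_mul, ← hK, pow_card_eq_one']
    have h0 : Commute (π (x ^ P)) (π (w ^ P)) :=
      hfixcomm _ _ (hfix' _ (hp x)) (hfix' _ (hp w))
    rw [← commutatorElement_eq_one_iff_commute, map_pow, map_pow] at h0
    have g1 : Commute ⁅π x, π w⁆ (π x) := by rw [← map_commutatorElement]; exact hC _ _ _
    have g2 : Commute ⁅π w, π x⁆ (π w) := by rw [← map_commutatorElement]; exact hC _ _ _
    have hP' : ⁅π x, π w ^ P⁆ = ⁅π x, π w⁆ ^ P := by
      rw [← commutatorElement_inv, commutator_pow_left g2, ← inv_pow, commutatorElement_inv]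
    have g3 : Commute ⁅π x, π w ^ P⁆ (π x) := hP' ▸ g1.pow_left P
    rw [commutator_pow_left g3, hP', ← pow_mul, ← map_commutatorElement] at h0
    exact eq_one_of_pow_of_pow h0 (by rw [← map_pow, hDpow _ (hcommD x w), map_one])
      (Nat.Coprime.mul_left hP hP)
  intro n hn
  have hle : D ≤ π.ker := by
    rw [hDdef, commutator_def, Subgroup.commutator_le]
    intro x _ w _
    exact hrange x w
  exact hle hn

end CfsgLib.S3FPF
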